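import Cfsg.Agent.Lib.M12SelfCent.Model

/-!
The admissible parameters, and the checks for each of them.
-/

set_option autoImplicit false
set_option linter.all false
set_option maxRecDepth 100000
set_option maxHeartbeats 0
set_option synthInstance.maxSize 2000
set_option synthInstance.maxHeartbeats 200000

namespace Cfsg.Agent.M12SelfCent

theorem ok0 : Prm.Ok ⟨0, 8, 24, 0⟩ (.model 48 2 51 25) := by
  unfold Prm.Ok Prm.IsModel; decide +kernel

theorem ok1 : Prm.Ok ⟨0, 8, 24, 4⟩ (.transfer 4) := by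
  refine ⟨?_, ?_⟩
  · unfold Prm.Common; decide +kernel
  · unfold Prm.Transfer; decide +kernel

theorem ok2 : Prm.Ok ⟨0, 8, 26, 0⟩ (.transfer 12) := by
  refine ⟨?_, ?_⟩
  · unfold Prm.Common; decide +kernel
  · unfold Prm.Transfer; decide +kernel

theorem ok3 : Prm.Ok ⟨0, 8, 26, 4⟩ (.transfer 4) := by
  refine ⟨?_, ?_⟩
  · unfold Prm.Common; decide +kernel
  · unfold Prm.Transfer; decide +kernel

theorem ok4 : Prm.Ok ⟨0, 8, 28, 0⟩ (.model 48 6 49 25) := by
  unfold Prm.Ok Prm.IsModel; decide +kernel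

theorem ok5 : Prm.Ok ⟨0, 8, 28, 4⟩ (.transfer 4) := by
  refine ⟨?_, ?_⟩
  · unfold Prm.Common; decide +kernel
  · unfold Prm.Transfer; decide +kernel

theorem ok6 : Prm.Ok ⟨0, 8, 30, 0⟩ (.transfer 12) := by
  refine ⟨?_, ?_⟩
  · unfold Prm.Common; decide +kernel
  · unfold Prm.Transfer; decide +kernel

theorem ok7 : Prm.Ok ⟨0, 8, 30, 4⟩ (.transfer 4) := by
  refine ⟨?_, ?_⟩
  · unfold Prm.Common; decide +kernel
  · unfold Prm.Transfer; decide +kernel

end Cfsg.Agent.M12SelfCent
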