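import Cfsg.Agent.Lib.M12SelfCent.Model

/-!
The admissible parameters, and the checks for each of them.
-/

set_option autoImplicit false
set_option linter.all false
set_option maxRecDepth 100000
set_option maxHeartbeats 0
set_option synthInstance.maxSize 2000
set_option synthInstance.maxHeartbeats 200000

namespace Cfsg.Agent.M12SelfCent

theorem ok8 : Prm.Ok ⟨0, 12, 24, 10⟩ (.transfer 4) := by
  refine ⟨?_, ?_⟩
  · unfold Prm.Common; decide +kernel
  · unfold Prm.Transfer; decide +kernel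

theorem ok9 : Prm.Ok ⟨0, 12, 24, 14⟩ (.transfer 12) := by
  refine ⟨?_, ?_⟩
  · unfold Prm.Common; decide +kernel
  · unfold Prm.Transfer; decide +kernel

theorem ok10 : Prm.Ok ⟨0, 12, 26, 10⟩ (.transfer 4) := by
  refine ⟨?_, ?_⟩
  · unfold Prm.Common; decide +kernel
  · unfold Prm.Transfer; decide +kernel

theorem ok11 : Prm.Ok ⟨0, 12, 26, 14⟩ (.model 49 6 50 25) := by
  unfold Prm.Ok Prm.IsModel; decide +kernel

theorem ok12 : Prm.Ok ⟨0, 12, 28, 10⟩ (.transfer 4) := by
  refine ⟨?_, ?_⟩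
  · unfold Prm.Common; decide +kernel
  · unfold Prm.Transfer; decide +kernel

theorem ok13 : Prm.Ok ⟨0, 12, 28, 14⟩ (.transfer 12) := by
  refine ⟨?_, ?_⟩
  · unfold Prm.Common; decide +kernel
  · unfold Prm.Transfer; decide +kernel

theorem ok14 : Prm.Ok ⟨0, 12, 30, 10⟩ (.transfer 4) := by
  refine ⟨?_, ?_⟩
  · unfold Prm.Common; decide +kernel
  · unfold Prm.Transfer; decide +kernel

theorem ok15 : Prm.Ok ⟨0, 12, 30, 14⟩ (.model 49 2 48 25) := by
  unfold Prm.Ok Prm.IsModel; decide +kernel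

end Cfsg.Agent.M12SelfCent
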