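import Cfsg.Agent.Lib.M12SelfCent.Model

/-!
The admissible parameters, and the checks for each of them.
-/

set_option autoImplicit false
set_option linter.all false
set_option maxRecDepth 100000
set_option maxHeartbeats 0
set_option synthInstance.maxSize 2000
set_option synthInstance.maxHeartbeats 200000

namespace Cfsg.Agent.M12SelfCent

theorem ok24 : Prm.Ok ⟨1, 12, 16, 10⟩ (.transfer 4) := by
  refine ⟨?_, ?_⟩
  · unfold Prm.Common; decide +kernel
  · unfold Prm.Transfer; decide +kernel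

theorem ok25 : Prm.Ok ⟨1, 12, 16, 14⟩ (.transfer 5) := by
  refine ⟨?_, ?_⟩
  · unfold Prm.Common; decide +kernel
  · unfold Prm.Transfer; decide +kernel

theorem ok26 : Prm.Ok ⟨1, 12, 18, 10⟩ (.transfer 4) := by
  refine ⟨?_, ?_⟩
  · unfold Prm.Common; decide +kernel
  · unfold Prm.Transfer; decide +kernel

theorem ok27 : Prm.Ok ⟨1, 12, 18, 14⟩ (.square 9 50 2 17) := by
  refine ⟨?_, ?_⟩
  · unfold Prm.Common; decide +kernel
  · unfold Prm.Square; decide +kernel

theorem ok28 : Prm.Ok ⟨1, 12, 20, 10⟩ (.transfer 4) := by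
  refine ⟨?_, ?_⟩
  · unfold Prm.Common; decide +kernel
  · unfold Prm.Transfer; decide +kernel

theorem ok29 : Prm.Ok ⟨1, 12, 20, 14⟩ (.transfer 5) := by
  refine ⟨?_, ?_⟩
  · unfold Prm.Common; decide +kernel
  · unfold Prm.Transfer; decide +kernel

theorem ok30 : Prm.Ok ⟨1, 12, 22, 10⟩ (.transfer 4) := by
  refine ⟨?_, ?_⟩
  · unfold Prm.Common; decide +kernel
  · unfold Prm.Transfer; decide +kernel

theorem ok31 : Prm.Ok ⟨1, 12, 22, 14⟩ (.square 9 48 2 17) := by
  refine ⟨?_, ?_⟩
  · unfold Prm.Common; decide +kernel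
  · unfold Prm.Square; decide +kernel

end Cfsg.Agent.M12SelfCent
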