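import Cfsg.Agent.Lib.M12SelfCent.Model
import Cfsg.Agent.Lib.Involutions.ThompsonTransfer
import Cfsg.Agent.Lib.SmallSimple.Orders3640.Tools

/-!
The checks of `Model`, read in a simple group with such a Sylow 2-subgroup: transfer and Glauberman's
theorem leave one class of involutions, or the group does not exist.
-/

set_option autoImplicit false
set_option linter.all false

namespace Cfsg.Agent.M12SelfCent

open Subgroup

variable {G : Type*} [Group G] [Finite G]

/-- The rule holds in the Sylow subgroup `S`. -/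
structure Rep (S : Sylow 2 G) (p : Prm) (φ : Fin 64 → G) : Prop where
  inj : Function.Injective φ
  map : ∀ x y, φ (p.m x y) = φ x * φ y
  range : Set.range φ = ((S : Subgroup G) : Set G)

/-- A 2-subgroup centralizing `u` moves, with `u`, into a given Sylow subgroup of `C(x)`. -/
theorem into_cent {x u : G} (R : Sylow 2 (centralizer ({x} : Set G))) (h : IsConj u x) (A : Subgroup G)
    (hA : IsPGroup 2 A) (hAu : ∀ a ∈ A, a * u = u * a) :
    ∃ g : G, g * u * g⁻¹ = x ∧ ∀ a ∈ A, g * a * g⁻¹ ∈ (R : Subgroup (centralizer ({x} : Set G))).map (Subgroup.subtype _) := by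
  haveI : Fact (Nat.Prime 2) := ⟨Nat.prime_two⟩
  obtain ⟨g, hg⟩ := isConj_iff.1 h
  have hmem : ∀ a ∈ A, g * a * g⁻¹ ∈ centralizer ({x} : Set G) := fun a ha => by
    rw [mem_centralizer_singleton_iff, ← hg]
    calc g * a * g⁻¹ * (g * u * g⁻¹) = g * (a * u) * g⁻¹ := by group
      _ = g * (u * a) * g⁻¹ := by rw [hAu a ha]
      _ = _ := by group
  have hle : A.map (MulAut.conj g).toMonoidHom ≤ centralizer ({x} : Set G) := by
    rintro _ ⟨a, ha, rfl⟩; exact hmem a ha
  obtain ⟨T, hT⟩ := ((hA.map (MulAut.conj g).toMonoidHom).of_equiv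
    (subgroupOfEquivOfLe hle).symm).exists_le_sylow
  obtain ⟨c, hc⟩ := MulAction.exists_smul_eq (centralizer ({x} : Set G)) T R
  refine ⟨(c : G) * g, ?_, fun a ha => ⟨c * ⟨g * a * g⁻¹, hmem a ha⟩ * c⁻¹, ?_, ?_⟩⟩
  · rw [show (c : G) * g * u * ((c : G) * g)⁻¹ = (c : G) * (g * u * g⁻¹) * (c : G)⁻¹ by group, hg,
      mem_centralizer_singleton_iff.1 c.2, mul_inv_cancel_right]
  · rw [← hc]
    exact Subgroup.smul_mem_pointwise_smul _ (MulAut.conj c) _ (hT (mem_subgroupOf.2 ⟨a, ha, rfl⟩))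
  · simp [mul_assoc]

namespace Rep

variable {S : Sylow 2 G} {p : Prm} {φ : Fin 64 → G} (H : Rep S p φ)
include H

theorem mem (x : Fin 64) : φ x ∈ (S : Subgroup G) := H.range.le ⟨x, rfl⟩

theorem exists_code {g : G} (hg : g ∈ (S : Subgroup G)) : ∃ x, φ x = g := H.range.ge hg

theorem one : φ 0 = 1 := by
  have h : p.m 0 0 = 0 := by
    exact Fin.ext (by simp [Prm.m, mulN])
  have := H.map 0 0
  rw [h, right_eq_mul] at this
  exact this

theorem comm_iff {x y : Fin 64} : p.m x y = p.m y x ↔ φ x * φ y = φ y * φ x := by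
  rw [← H.map, ← H.map]
  exact ⟨fun h => by rw [h], fun h => H.inj h⟩

theorem of_inv {x : Fin 64} (hx : p.Inv x) : orderOf (φ x) = 2 :=
  orderOf_eq_prime (by rw [sq, ← H.map, hx.2, H.one]) fun e => hx.1 (H.inj (e.trans H.one.symm))

theorem to_inv {x : Fin 64} (hx : orderOf (φ x) = 2) : p.Inv x := by
  refine ⟨fun e => ?_, H.inj ?_⟩
  · rw [e, H.one, orderOf_one] at hx; norm_num at hx
  · rw [H.map, H.one, ← sq, ← hx, pow_orderOf_eq_one]

theorem conj_of {g x y : Fin 64} (h : p.m g x = p.m y g) : IsConj (φ x) (φ y) :=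
  isConj_iff.2 ⟨φ g, by rw [mul_inv_eq_iff_eq_mul, ← H.map, ← H.map, h]⟩

/-- Every conjugate of `z` can be moved to `z` together with its centralizer in `S`. -/
theorem to_four (hc : ∀ x, p.m 4 x = p.m x 4) {u : Fin 64} (h : IsConj (φ u) (φ 4)) :
    ∃ g : G, g * φ u * g⁻¹ = φ 4 ∧ ∀ b, p.m u b = p.m b u → ∃ b', φ b' = g * φ b * g⁻¹ := by
  have hS : (S : Subgroup G) ≤ centralizer ({φ 4} : Set G) := fun s hs => by
    obtain ⟨x, rfl⟩ := H.exists_code hs
    exact mem_centralizer_singleton_iff.2 (H.comm_iff.1 (hc x)).symm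
  obtain ⟨g, hg, hgA⟩ := into_cent (S.subtype hS) h ((S : Subgroup G) ⊓ centralizer ({φ u} : Set G))
    (S.2.to_le inf_le_left) (fun a ha => mem_centralizer_singleton_iff.1 ha.2)
  refine ⟨g, hg, fun b hb => ?_⟩
  obtain ⟨y, hy, hyb⟩ := hgA (φ b) ⟨H.mem b, mem_centralizer_singleton_iff.2 (H.comm_iff.1 hb).symm⟩
  have hyb' : (y : G) = g * φ b * g⁻¹ := hyb
  obtain ⟨x, hx⟩ := H.exists_code (show (y : G) ∈ (S : Subgroup G) from hy)
  exact ⟨x, hx.trans hyb'⟩

variable {v : Fin 16}

/-- The character as a homomorphism. -/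
theorem exists_char (hχ : ∀ x y, chi v (p.m x y) = xor (chi v x) (chi v y)) :
    ∃ ψ : ↥(S : Subgroup G) →* Multiplicative (ZMod 2),
      ∀ x, ψ ⟨φ x, H.mem x⟩ = Multiplicative.ofAdd (if chi v x then 1 else 0) := by
  choose code hcode using fun s : ↥(S : Subgroup G) => H.exists_code s.2
  have hcm : ∀ s t, code (s * t) = p.m (code s) (code t) := fun s t => H.inj (by
    rw [hcode, H.map, hcode, hcode]; rfl)
  refine ⟨MonoidHom.mk' (fun s => Multiplicative.ofAdd (if chi v (code s) then 1 else 0)) fun s t => ?_, fun x => ?_⟩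
  · rw [hcm, hχ, ← ofAdd_add]
    congr 1
    cases chi v (code s) <;> cases chi v (code t) <;> decide
  · show Multiplicative.ofAdd _ = _
    rw [show code ⟨φ x, H.mem x⟩ = x from H.inj (hcode _)]

variable [IsSimpleGroup G] (hna : ¬ IsMulCommutative G)
include hna

theorem no_index_two : ∀ K : Subgroup G, K.index ≠ 2 := by
  intro K hK
  rcases (normal_of_index_eq_two hK).eq_bot_or_eq_top with h | h
  · rw [h, index_bot] at hK
    haveI := Fact.mk (hK ▸ Nat.prime_two : (Nat.card G).Prime)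
    have hcyc : IsCyclic G := isCyclic_of_prime_card rfl
    exact hna ⟨⟨fun a b => IsCyclic.commGroup.mul_comm a b⟩⟩
  · rw [h, index_top] at hK; norm_num at hK

/-- Thompson transfer along the kernel of a character. -/
theorem transfer_inv (hχ : ∀ x y, chi v (p.m x y) = xor (chi v x) (chi v y)) (hv : ∃ x, chi v x = true)
    {t : G} (ht : orderOf t = 2) : ∃ y, p.Inv y ∧ chi v y = false ∧ IsConj t (φ y) := by
  obtain ⟨ψ, hψ⟩ := H.exists_char hχ
  obtain ⟨x, hx⟩ := hv
  have hidx : ψ.ker.index = 2 := by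
    rw [index_ker]
    have hle := card_subgroup_dvd_card ψ.range
    rw [Nat.card_congr Multiplicative.toAdd, Nat.card_zmod] at hle
    refine ((Nat.dvd_prime Nat.prime_two).1 hle).resolve_left fun h1 => ?_
    have hm : ψ ⟨φ x, H.mem x⟩ ∈ ψ.range := ⟨_, rfl⟩
    rw [Subgroup.card_eq_one.1 h1, mem_bot, hψ, hx] at hm
    exact absurd hm (by decide)
  have hrel : (ψ.ker.map (S : Subgroup G).subtype).relIndex (S : Subgroup G) = 2 := by
    rw [relIndex, subgroupOf, comap_map_eq_self_of_injective (S : Subgroup G).subtype_injective, hidx]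
  obtain ⟨g, s, hs, hsg⟩ := Involutions.ThompsonTransfer.exists_conj_mem (H.no_index_two hna) S _
    (map_subtype_le _) hrel t ht
  obtain ⟨y, hy⟩ := H.exists_code s.2
  have hyt : φ y = g * t * g⁻¹ := hy.trans hsg
  refine ⟨y, H.to_inv ?_, ?_, isConj_iff.2 ⟨g, hyt.symm⟩⟩
  · rw [hyt, show g * t * g⁻¹ = MulAut.conj g t from rfl, MulEquiv.orderOf_eq, ht]
  · have h1 : ψ ⟨φ y, H.mem y⟩ = 1 := by rw [show (⟨φ y, H.mem y⟩ : ↥(S : Subgroup G)) = s from Subtype.ext hy]; exact hs
    rw [hψ] at h1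
    cases hc : chi v y
    · rfl
    · rw [hc] at h1; exact absurd h1 (by decide)

/-- An element of order four outside a hyperplane that holds all involutions has a conjugate inside. -/
theorem transfer_four (hχ : ∀ x y, chi v (p.m x y) = xor (chi v x) (chi v y))
    (hinv : ∀ u, p.Inv u → chi v u = false) {x : Fin 64} (hx4 : φ x ^ 4 = 1) (hxv : chi v x = true) :
    ∃ (g : G) (y : Fin 64), chi v y = false ∧ φ y = g * φ x * g⁻¹ := by
  classical
  obtain ⟨ψ, hψ⟩ := H.exists_char hχ
  by_contra hno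
  push Not at hno
  set o : Multiplicative (ZMod 2) := Multiplicative.ofAdd 1 with ho
  have hψ' : ∀ (s : ↥(S : Subgroup G)) (y : Fin 64), φ y = s → ψ s = Multiplicative.ofAdd (if chi v y then 1 else 0) := by
    intro s y hy; rw [← hψ]; exact congrArg ψ (Subtype.ext hy.symm)
  have key : ∀ (n : ℕ) (g : G) (hm : g⁻¹ * φ x ^ n * g ∈ (S : Subgroup G)), ψ ⟨_, hm⟩ = o ^ n := by
    intro n g hm
    have ho2 : o * o = 1 := by decide
    rcases Nat.even_or_odd n with hn | hn
    · have hon : o ^ n = 1 := by obtain ⟨m, rfl⟩ := hn; rw [← two_mul, pow_mul, sq, ho2, one_pow]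
      obtain ⟨y, hy⟩ := H.exists_code hm
      rw [hψ' _ y hy, hon]
      have hsq : φ y * φ y = 1 := by
        obtain ⟨m, rfl⟩ := hn
        rw [hy, show g⁻¹ * φ x ^ (m + m) * g * (g⁻¹ * φ x ^ (m + m) * g) = g⁻¹ * (φ x ^ (m + m) * φ x ^ (m + m)) * g by group,
          ← pow_add, show m + m + (m + m) = 4 * m by ring, pow_mul, hx4, one_pow, mul_one, inv_mul_cancel]
      have : chi v y = false := by
        by_cases h0 : y = 0
        · rw [h0]; simp [chi]
        · exact hinv y ⟨h0, H.inj (by rw [H.map, hsq, H.one])⟩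
      rw [this]; rfl
    · have hy1 : g⁻¹ * φ x * g ∈ (S : Subgroup G) := by
        have h := pow_mem hm n
        have hc := conj_pow (a := g⁻¹) (b := φ x ^ n) (i := n)
        rw [inv_inv, ← pow_mul, pow_eq_pow_mod (n * n) hx4] at hc
        rw [hc] at h
        obtain ⟨m, rfl⟩ := hn
        rwa [show (2 * m + 1) * (2 * m + 1) % 4 = 1 by
          rw [show (2 * m + 1) * (2 * m + 1) = 4 * (m * m + m) + 1 by ring, Nat.mul_add_mod], pow_one] at h
      obtain ⟨y, hy⟩ := H.exists_code hy1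
      have hyv : chi v y = true := by
        cases hc : chi v y
        · exact absurd (by simpa using hy) (hno g⁻¹ y hc)
        · rfl
      have h1 : ψ ⟨_, hy1⟩ = o := by rw [hψ' _ y hy, hyv]; rfl
      rw [← h1, ← map_pow]
      refine congrArg ψ (Subtype.ext ?_)
      have hc := conj_pow (a := g⁻¹) (b := φ x) (i := n)
      rw [inv_inv] at hc
      exact hc.symm
  let := (S : Subgroup G).fintypeQuotientOfFiniteIndex
  let : Fintype (Quotient (MulAction.orbitRel (zpowers (φ x)) (G ⧸ (S : Subgroup G)))) := Fintype.ofFinite _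
  have h1 : MonoidHom.transfer ψ (φ x) = o := by
    rw [MonoidHom.transfer_eq_prod_quotient_orbitRel_zpowers_quot]
    simp only [key, Finset.prod_pow_eq_pow_sum, ← Subgroup.index_eq_sum_minimalPeriod]
    obtain ⟨m, hm⟩ : Odd (S : Subgroup G).index := by
      rw [Nat.odd_iff]
      have := S.not_dvd_index
      omega
    rw [hm, pow_succ, pow_mul, sq, show o * o = 1 by decide, one_pow, one_mul]
  rcases (MonoidHom.transfer ψ).normal_ker.eq_bot_or_eq_top with h | h
  · exact hna ⟨⟨fun a b => (MonoidHom.ker_eq_bot_iff _).1 h (by rw [map_mul, map_mul, mul_comm])⟩⟩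
  · rw [MonoidHom.mem_ker.1 (h ▸ mem_top (φ x))] at h1
    exact absurd h1 (by decide)

/-- The first kind of parameters leaves one class of involutions. -/
theorem one_class (hC : p.Common) (hT : p.Transfer v) (s t : G) (hs : orderOf s = 2) (ht : orderOf t = 2) :
    IsConj s t := by
  obtain ⟨h44, h88, h84, hcen, ⟨g₀, hg₀⟩, hsq⟩ := hC
  obtain ⟨hχ, hv, hker, hout, hE⟩ := hT
  have haz : IsConj (φ 8) (φ 12) := H.conj_of hg₀
  have hI4 : p.Inv 4 := ⟨by decide, h44⟩
  have hI8 : p.Inv 8 := ⟨by decide, h88⟩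
  have h8z : IsConj (φ 8) (φ 4) := by
    by_contra hne
    have h12z : ¬ IsConj (φ 12) (φ 4) := fun h => hne (haz.trans h)
    have hnot : ∀ u, p.Inv u → u ≠ 4 → ¬ IsConj (φ u) (φ 4) := by
      intro u hu hu4 hc
      by_cases hW : InW u
      · rcases hW with rfl | rfl | rfl
        · exact hu4 rfl
        · exact hne hc
        · exact h12z hc
      obtain ⟨g, hg, hgb⟩ := H.to_four hcen hc
      rcases hout u hu hW with ⟨w, huw, hw4⟩ | ⟨hu8, ⟨g1, h1⟩, ⟨g2, h2⟩, ⟨g3, h3⟩⟩
      · obtain ⟨w', hw'⟩ := hgb w huw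
        have hs' : φ (p.m w' w') = g * φ 4 * g⁻¹ := by
          rw [H.map, hw', show g * φ w * g⁻¹ * (g * φ w * g⁻¹) = g * (φ w * φ w) * g⁻¹ by group, ← H.map, hw4]
        have hi : p.Inv (p.m w' w') := H.to_inv (by
          rw [hs', show g * φ 4 * g⁻¹ = MulAut.conj g (φ 4) from rfl, MulEquiv.orderOf_eq, H.of_inv hI4])
        have hconj : IsConj (φ (p.m w' w')) (φ 4) := (isConj_iff.2 ⟨g, hs'.symm⟩).symm
        rcases hsq w' hi with e | e | e <;> rw [e] at hs' hconj
        · exact hu4 (H.inj (mul_left_cancel (mul_right_cancel (hg.trans hs'))))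
        · exact hne hconj
        · exact h12z hconj
      · obtain ⟨r, hr⟩ := hgb 4 (hcen u).symm
        obtain ⟨q, hq⟩ := hgb 8 hu8
        have hrI : p.Inv r := H.to_inv (by
          rw [hr, show g * φ 4 * g⁻¹ = MulAut.conj g (φ 4) from rfl, MulEquiv.orderOf_eq, H.of_inv hI4])
        have hqI : p.Inv q := H.to_inv (by
          rw [hq, show g * φ 8 * g⁻¹ = MulAut.conj g (φ 8) from rfl, MulEquiv.orderOf_eq, H.of_inv hI8])
        have hcj : ∀ (y w : Fin 64), φ y = g * φ w * g⁻¹ → ∀ y', φ y' = g * φ w * g⁻¹ → y = y' :=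
          fun y w h y' h' => H.inj (h.trans h'.symm)
        have himg : ∀ a b a' b', φ a' = g * φ a * g⁻¹ → φ b' = g * φ b * g⁻¹ → φ (p.m a' b') = g * φ (p.m a b) * g⁻¹ := by
          intro a b a' b' ha hb
          rw [H.map, H.map, ha, hb]; group
        have h4' : φ 4 = g * φ u * g⁻¹ := hg.symm
        have hne' : ∀ a b : Fin 64, ∀ a', φ a' = g * φ a * g⁻¹ → φ b = g * φ a * g⁻¹ → a' = b := fun a b a' h h' => hcj a' a h b h'
        have hu8' : u ≠ 8 := fun e => hW (Or.inr (Or.inl e))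
        have hu12 : u ≠ 12 := fun e => hW (Or.inr (Or.inr e))
        have hback : ∀ a b : Fin 64, ∀ c, φ c = g * φ a * g⁻¹ → φ c = g * φ b * g⁻¹ → a = b := fun a b c h h' =>
          H.inj (mul_left_cancel (mul_right_cancel (h.symm.trans h')))
        have hrq : p.m r q = p.m q r := H.inj (by
          rw [himg 4 8 r q hr hq, himg 8 4 q r hq hr, hcen])
        have hu4z : p.m (p.m u 4) 4 = u := H.inj (by rw [H.map, H.map, mul_assoc, ← H.map 4, h44, H.one, mul_one])
        have hz84 : p.m 8 4 = 12 := h84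
        have hq4 : q ≠ p.m r 4 := fun e => by
          have h5 := himg 4 u r 4 hr h4'
          have h6 : p.m 4 u = 8 := (hback _ _ q (e ▸ h5) hq)
          apply hu12
          rw [← hu4z, ← hcen u, h6, hz84]
        have hall := hE r q hrI hqI hrq (fun e => hu4 (hback 4 u r hr (e ▸ h4')).symm)
          (fun e => hu8' (hback 8 u q hq (e ▸ h4')).symm)
          (fun e => absurd (hback 8 4 q hq (e ▸ hr)) (by decide)) hq4
        -- the element taken to `a`
        obtain ⟨s', hs'8, hs'⟩ : ∃ s', φ 8 = g * φ s' * g⁻¹ ∧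
            (s' = 4 ∨ s' = 8 ∨ s' = 12 ∨ s' = p.m u 4 ∨ s' = p.m u 8 ∨ s' = p.m u 12) := by
          have hu8c : p.m 8 u = p.m u 8 := hu8.symm
          rcases hall with e | e | e | e | e | e
          · exact ⟨4, (congrArg φ e.symm).trans hr, Or.inl rfl⟩
          · exact ⟨8, (congrArg φ e.symm).trans hq, Or.inr (Or.inl rfl)⟩
          · refine ⟨p.m 4 8, (congrArg φ e.symm).trans (himg 4 8 r q hr hq), Or.inr (Or.inr (Or.inl ?_))⟩
            rw [hcen, hz84]
          · refine ⟨p.m 4 u, (congrArg φ e.symm).trans (himg 4 u r 4 hr h4'), Or.inr (Or.inr (Or.inr (Or.inl ?_)))⟩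
            rw [hcen]
          · refine ⟨p.m 8 u, (congrArg φ e.symm).trans (himg 8 u q 4 hq h4'), Or.inr (Or.inr (Or.inr (Or.inr (Or.inl hu8c))))⟩
          · refine ⟨p.m (p.m 4 8) u, (congrArg φ e.symm).trans (himg _ u _ 4 (himg 4 8 r q hr hq) h4'),
              Or.inr (Or.inr (Or.inr (Or.inr (Or.inr ?_))))⟩
            rw [hcen 8, hz84]
            refine H.inj ?_
            rw [← hz84, H.map, H.map, H.map, H.map, mul_assoc, H.comm_iff.1 (hcen u), ← mul_assoc, ← mul_assoc,
              H.comm_iff.1 hu8]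
        have hconjz : ∀ a, p.Inv u → (∃ gg, p.m gg u = p.m a gg) → IsConj (φ a) (φ 4) := fun a _ ⟨gg, h⟩ =>
          (H.conj_of h).symm.trans hc
        have hcl : IsConj (φ s') (φ 8) := isConj_iff.2 ⟨g, hs'8.symm⟩
        -- and the one taken to `a z`
        have h12 : φ 12 = g * φ (p.m s' u) * g⁻¹ := by rw [← hz84]; exact himg s' u 8 4 hs'8 h4'
        have hcl2 : IsConj (φ (p.m s' u)) (φ 12) := isConj_iff.2 ⟨g, h12.symm⟩
        rcases hs' with e | e | e | e | e | e <;> subst e
        · exact hne hcl.symm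
        · exact h12z (hcl2.symm.trans (by rw [hu8.symm]; exact hconjz _ hu ⟨g2, h2⟩))
        · refine h12z (hcl2.symm.trans ?_)
          rw [show p.m 12 u = p.m u 12 from H.inj (by
            rw [← hz84, H.map, H.map, H.map, H.map, mul_assoc, H.comm_iff.1 (hcen u), ← mul_assoc, ← mul_assoc,
              H.comm_iff.1 hu8.symm])]
          exact hconjz _ hu ⟨g3, h3⟩
        · exact hne (hcl.symm.trans (hconjz _ hu ⟨g1, h1⟩))
        · exact hne (hcl.symm.trans (hconjz _ hu ⟨g2, h2⟩))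
        · exact hne (hcl.symm.trans (hconjz _ hu ⟨g3, h3⟩))
    refine SmallSimple.Orders3640.false_of_isolated hna (H.of_inv hI4) fun g hg => ?_
    by_contra hgne
    set w := g * φ 4 * g⁻¹ with hw
    have hwo : orderOf w = 2 := by
      rw [hw, show g * φ 4 * g⁻¹ = MulAut.conj g (φ 4) from rfl, MulEquiv.orderOf_eq, H.of_inv hI4]
    have hSC : (S : Subgroup G) ≤ centralizer ({φ 4} : Set G) := fun s hs => by
      obtain ⟨x, rfl⟩ := H.exists_code hs
      exact mem_centralizer_singleton_iff.2 (H.comm_iff.1 (hcen x)).symm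
    have hwp : IsPGroup 2 (zpowers w) := IsPGroup.of_card (n := 1) (by rw [Nat.card_zpowers, hwo, pow_one])
    have hAu : ∀ a ∈ zpowers w, a * φ 4 = φ 4 * a := fun a ha => by
      obtain ⟨i, rfl⟩ := ha
      exact ((show Commute (φ 4) w from hg).zpow_right i).eq.symm
    obtain ⟨c, hc, hcA⟩ := into_cent (S.subtype hSC) (IsConj.refl _) (zpowers w) hwp hAu
    obtain ⟨y, hy, hyw⟩ := hcA w (mem_zpowers w)
    have hyw' : (y : G) = c * w * c⁻¹ := hyw
    obtain ⟨u, hu⟩ := H.exists_code (show (y : G) ∈ (S : Subgroup G) from hy)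
    refine hnot u (H.to_inv ?_) ?_ (isConj_iff.2 ⟨(c * g)⁻¹, ?_⟩)
    · rw [hu, hyw', show c * w * c⁻¹ = MulAut.conj c w from rfl, MulEquiv.orderOf_eq, hwo]
    · intro e
      rw [e, hyw', ← hc] at hu
      exact hgne (mul_left_cancel (mul_right_cancel hu)).symm
    · rw [hu, hyw', hw]; group
  have key : ∀ t : G, orderOf t = 2 → IsConj t (φ 4) := by
    intro t ht
    obtain ⟨y, hy, hyv, hty⟩ := H.transfer_inv hna hχ hv ht
    refine hty.trans ?_
    rcases hker y hy hyv with rfl | rfl | rfl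
    · exact IsConj.refl _
    · exact h8z
    · exact haz.symm.trans h8z
  exact (key s hs).trans (key t ht).symm

end Rep

end Cfsg.Agent.M12SelfCent
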