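import Cfsg.Agent.Lib.M12SelfCent.Fusion

/-!
The third kind of parameters: a normalizer of the homocyclic subgroup of order 16 contradicts them.
-/

set_option autoImplicit false
set_option linter.all false

namespace Cfsg.Agent.M12SelfCent

open Subgroup

/-- There are three involutions in the four-group. -/
theorem four_W {a b c d : Fin 64} (ha : InW a) (hb : InW b) (hc : InW c) (hd : InW d) (h1 : a ≠ b) (h2 : a ≠ c)
    (h3 : a ≠ d) (h4 : b ≠ c) (h5 : b ≠ d) (h6 : c ≠ d) : False := by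
  rcases ha with rfl | rfl | rfl <;> rcases hb with rfl | rfl | rfl <;> rcases hc with rfl | rfl | rfl <;>
    rcases hd with rfl | rfl | rfl <;>
    first | exact h1 rfl | exact h2 rfl | exact h3 rfl | exact h4 rfl | exact h5 rfl | exact h6 rfl

variable {G : Type*} [Group G] [Finite G]

namespace Rep

variable {S : Sylow 2 G} {p : Prm} {φ : Fin 64 → G} (H : Rep S p φ)
include H

theorem pw_map (x : Fin 64) : ∀ m : ℕ, φ (p.pw x m) = φ x ^ m
  | 0 => by rw [Prm.pw, H.one, pow_zero]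
  | m + 1 => by rw [Prm.pw, H.map, pw_map x m, pow_succ]

variable [IsSimpleGroup G] (hna : ¬ IsMulCommutative G) {v : Fin 16}
include hna

/-- The third kind of parameters does not occur. -/
theorem square_false (hC : p.Common) {x x' k : Fin 64} (hQ : p.Square v x x' k) : False := by
  classical
  haveI : Fact (Nat.Prime 2) := ⟨Nat.prime_two⟩
  obtain ⟨h44, h88, h84, hcen, -, hsq⟩ := hC
  obtain ⟨hχ, hinv, ⟨hxv, hxx, hxx', hx'4, hx'8⟩, hout, hin, huniq, hgen, hnorm, hΩ, -, ⟨hk8, hkx⟩, hact⟩ := hQ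
  have hxF : p.Four x := ⟨by rw [hxx]; decide, by rw [hxx, h88]⟩
  have hxp4 : φ x ^ 4 = 1 := by
    rw [show (4 : ℕ) = 2 * 2 from rfl, pow_mul, sq (φ x), ← H.map, hxx, sq, ← H.map, h88, H.one]
  obtain ⟨g₁, y, hyv, hy⟩ := H.transfer_four hna hχ hinv hxp4 hxv
  have hfour : ∀ (w : Fin 64) (g : G), φ w = g * φ x * g⁻¹ → p.Four w := by
    intro w g hw
    have h2 : φ (p.m w w) = g * φ 8 * g⁻¹ := by rw [H.map, hw, ← hxx, H.map]; group
    refine ⟨fun e => ?_, H.inj ?_⟩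
    · rw [e, H.one, eq_comm, conj_eq_one_iff, ← H.one] at h2
      exact absurd (H.inj h2) (by decide)
    · rw [H.map, h2, H.one, show g * φ 8 * g⁻¹ * (g * φ 8 * g⁻¹) = g * (φ 8 * φ 8) * g⁻¹ by group, ← H.map, h88,
        H.one, mul_one, mul_inv_cancel]
  -- a conjugate with a Sylow centralizer inside `S`
  obtain ⟨R⟩ : Nonempty (Sylow 2 (centralizer ({φ x} : Set G))) := inferInstance
  obtain ⟨T, hT⟩ := (R.2.map (centralizer ({φ x} : Set G)).subtype).exists_le_sylow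
  obtain ⟨g₂, hg₂⟩ := MulAction.exists_smul_eq G T S
  have hmove : ∀ (u : Fin 64) (g : G), φ u = g * φ x * g⁻¹ → ∃ h : G,
      h * φ u * h⁻¹ = g₂ * φ x * g₂⁻¹ ∧ ∀ b, p.m b u = p.m u b → ∃ b', φ b' = h * φ b * h⁻¹ := by
    intro u g hu
    obtain ⟨h, hh, hhA⟩ := into_cent R (isConj_iff.2 ⟨g, hu.symm⟩).symm ((S : Subgroup G) ⊓ centralizer ({φ u} : Set G))
      (S.2.to_le inf_le_left) (fun a ha => mem_centralizer_singleton_iff.1 ha.2)
    refine ⟨g₂ * h, by rw [show g₂ * h * φ u * (g₂ * h)⁻¹ = g₂ * (h * φ u * h⁻¹) * g₂⁻¹ by group, hh], fun b hb => ?_⟩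
    have h1 := hT (hhA (φ b) ⟨H.mem b, mem_centralizer_singleton_iff.2 (H.comm_iff.1 hb)⟩)
    have h2 : g₂ * (h * φ b * h⁻¹) * g₂⁻¹ ∈ (S : Subgroup G) := by
      rw [← hg₂]; exact Subgroup.smul_mem_pointwise_smul _ (MulAut.conj g₂) _ h1
    obtain ⟨b', hb'⟩ := H.exists_code h2
    exact ⟨b', by rw [hb']; group⟩
  obtain ⟨h, hh, hhb⟩ := hmove x 1 (by group)
  obtain ⟨e, he⟩ := hhb x rfl
  have heg : φ e = g₂ * φ x * g₂⁻¹ := he.trans hh
  have heF := hfour e g₂ heg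
  have hev : chi v e = false := by
    by_contra hev
    rw [Bool.not_eq_false] at hev
    have hyF := hfour y g₁ hy
    obtain ⟨-, i, j, hi, hiy, hj, hjy, hiyy, hjyy, hji, hjiy⟩ := hin y hyv hyF
    obtain ⟨hy', hhy, hhyb⟩ := hmove y g₁ hy
    have himg : ∀ b, p.m b y = p.m y b → p.Inv b → ∃ b', φ b' = hy' * φ b * hy'⁻¹ ∧ InW b' := by
      intro b hb hbI
      obtain ⟨b', hb'⟩ := hhyb b hb
      refine ⟨b', hb', hout e b' hev heF (H.to_inv ?_) (H.comm_iff.2 ?_)⟩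
      · rw [hb', show hy' * φ b * hy'⁻¹ = MulAut.conj hy' (φ b) from rfl, MulEquiv.orderOf_eq, H.of_inv hbI]
      · rw [hb', heg, ← hhy]
        calc hy' * φ b * hy'⁻¹ * (hy' * φ y * hy'⁻¹) = hy' * (φ b * φ y) * hy'⁻¹ := by group
          _ = hy' * (φ y * φ b) * hy'⁻¹ := by rw [H.comm_iff.1 hb]
          _ = _ := by group
    have hqc : p.m (p.m y y) y = p.m y (p.m y y) := H.inj (by simp only [H.map, mul_assoc])
    have hqI : p.Inv (p.m y y) := ⟨hyF.1, hyF.2⟩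
    have hiqc : p.m (p.m i (p.m y y)) y = p.m y (p.m i (p.m y y)) := H.comm_iff.2 (by
      rw [H.map i]
      exact (show Commute (φ i) (φ y) from H.comm_iff.1 hiy).mul_left (H.comm_iff.1 hqc))
    have hiqI : p.Inv (p.m i (p.m y y)) := by
      have hiq : φ i * φ (p.m y y) = φ (p.m y y) * φ i := by
        have hc : Commute (φ i) (φ y) := H.comm_iff.1 hiy
        rw [H.map]
        exact (hc.mul_right hc).eq
      refine ⟨fun e => hiyy (H.inj ?_), H.inj ?_⟩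
      · have h1 : φ i * φ (p.m y y) = 1 := by rw [← H.map, e, H.one]
        have h2 : φ i * φ i = 1 := by rw [← H.map, hi.2, H.one]
        exact mul_left_cancel (h2.trans h1.symm)
      · rw [H.map, H.map, show φ i * φ (p.m y y) * (φ i * φ (p.m y y)) = φ i * (φ (p.m y y) * φ i) * φ (p.m y y) by group,
          ← hiq, ← mul_assoc, ← H.map i i, hi.2, H.one, one_mul, ← H.map, hqI.2, H.one]
    obtain ⟨a1, ha1, hw1⟩ := himg i hiy hi
    obtain ⟨a2, ha2, hw2⟩ := himg j hjy hj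
    obtain ⟨a3, ha3, hw3⟩ := himg _ hqc hqI
    obtain ⟨a4, ha4, hw4⟩ := himg _ hiqc hiqI
    have hne : ∀ b c b' c', φ b' = hy' * φ b * hy'⁻¹ → φ c' = hy' * φ c * hy'⁻¹ → b ≠ c → b' ≠ c' :=
      fun b c b' c' hb hc hbc hh' => hbc (H.inj (mul_left_cancel (mul_right_cancel (hb.symm.trans (hh' ▸ hc)))))
    have hiq_ne : i ≠ p.m i (p.m y y) := fun e => hqI.1 (H.inj (by
      have h := congrArg φ e; rw [H.map, left_eq_mul] at h; rw [h, H.one]))
    have hqiq : p.m y y ≠ p.m i (p.m y y) := fun e => hi.1 (H.inj (by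
      have h := congrArg φ e; rw [H.map i, right_eq_mul] at h; rw [h, H.one]))
    have n12 := hne i j a1 a2 ha1 ha2 (Ne.symm hji)
    have n13 := hne _ _ a1 a3 ha1 ha3 hiyy
    have n14 := hne _ _ a1 a4 ha1 ha4 hiq_ne
    have n23 := hne _ _ a2 a3 ha2 ha3 hjyy
    have n24 := hne _ _ a2 a4 ha2 ha4 hjiy
    have n34 := hne _ _ a3 a4 ha3 ha4 hqiq
    exact four_W hw1 hw2 hw3 hw4 n12 n13 n14 n23 n24 n34
  obtain ⟨hee, -⟩ := hin e hev heF
  have hh8 : h * φ 8 * h⁻¹ = φ 4 := by rw [← hee, H.map, ← hxx, H.map, he]; group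
  -- the homocyclic subgroup
  set A := (S : Subgroup G) ⊓ centralizer ({φ x} : Set G) with hA
  have hmemA : ∀ r, φ r ∈ A ↔ p.m r x = p.m x r := fun r =>
    ⟨fun hr => H.comm_iff.2 (mem_centralizer_singleton_iff.1 hr.2),
      fun hr => ⟨H.mem r, mem_centralizer_singleton_iff.2 (H.comm_iff.1 hr)⟩⟩
  have hxA : φ x ∈ A := (hmemA x).2 rfl
  obtain ⟨e', he'⟩ := hhb x' hxx'.symm
  have hpair : p.Four e' ∧ p.m e e' = p.m e' e ∧ p.m e e ≠ p.m e' e' := by
    have h2 : φ (p.m e' e') = h * φ (p.m x' x') * h⁻¹ := by rw [H.map, he', H.map]; group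
    refine ⟨⟨fun e0 => hx'4.1 (H.inj ?_), H.inj ?_⟩, H.inj ?_, fun e0 => hx'8 (H.inj ?_)⟩
    · rw [e0, H.one, eq_comm, conj_eq_one_iff] at h2; rw [h2, H.one]
    · rw [H.map, h2, H.one, show h * φ (p.m x' x') * h⁻¹ * (h * φ (p.m x' x') * h⁻¹) =
        h * (φ (p.m x' x') * φ (p.m x' x')) * h⁻¹ by group, ← H.map, hx'4.2, H.one, mul_one, mul_inv_cancel]
    · rw [H.map, H.map, he, he', show h * φ x * h⁻¹ * (h * φ x' * h⁻¹) = h * (φ x * φ x') * h⁻¹ by group,
        H.comm_iff.1 hxx']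
      group
    · rw [← e0, hee, ← hh8] at h2
      exact (mul_left_cancel (mul_right_cancel h2)).symm
  have heA : φ e ∈ A := (hmemA e).2 (huniq e e' heF hpair.1 hpair.2.1 hpair.2.2)
  have he'A : φ e' ∈ A := (hmemA e').2 (huniq e' e hpair.1 heF hpair.2.1.symm hpair.2.2.symm)
  have hhA : ∀ a ∈ A, h * a * h⁻¹ ∈ A := by
    intro a ha
    obtain ⟨r, rfl⟩ := H.exists_code ha.1
    obtain ⟨i, j, hr⟩ := hgen r ((hmemA r).1 ha)
    rw [← hr, H.map, H.pw_map, H.pw_map, show h * (φ x ^ (i : ℕ) * φ x' ^ (j : ℕ)) * h⁻¹ =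
      (h * φ x ^ (i : ℕ) * h⁻¹) * (h * φ x' ^ (j : ℕ) * h⁻¹) by group, ← conj_pow, ← conj_pow, ← he, ← he']
    exact mul_mem (pow_mem heA _) (pow_mem he'A _)
  have hhN : h ∈ normalizer (A : Set G) := by
    have hm : A.map (MulAut.conj h).toMonoidHom = A := eq_of_le_of_card_ge
      (by rintro _ ⟨a, ha, rfl⟩; exact hhA a ha)
      (by rw [card_map_of_injective (f := (MulAut.conj h).toMonoidHom) (MulAut.conj h).injective])
    refine mem_normalizer_iff.2 fun a => ⟨hhA a, fun ha => ?_⟩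
    have h9 : h * a * h⁻¹ ∈ A.map (MulAut.conj h).toMonoidHom := hm.symm ▸ ha
    obtain ⟨b, hb, hba⟩ := h9
    have hba' : h * b * h⁻¹ = h * a * h⁻¹ := hba
    rwa [← mul_left_cancel (mul_right_cancel hba')]
  have hSN : (S : Subgroup G) ≤ normalizer (A : Set G) := by
    have hle : ∀ r : Fin 64, ∀ a ∈ A, φ r * a * (φ r)⁻¹ ∈ A := by
      intro r a ha
      obtain ⟨q, rfl⟩ := H.exists_code ha.1
      obtain ⟨s, hs, hrs⟩ := hnorm r q ((hmemA q).1 ha)
      rw [← H.map, hrs, H.map, mul_inv_cancel_right]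
      exact (hmemA s).2 hs
    intro s hs
    obtain ⟨r, rfl⟩ := H.exists_code hs
    refine mem_normalizer_iff.2 fun a => ⟨hle r a, fun ha => ?_⟩
    obtain ⟨r', hr'⟩ := H.exists_code (inv_mem (H.mem r))
    have := hle r' _ ha
    rw [hr', inv_inv] at this
    rwa [show (φ r)⁻¹ * (φ r * a * (φ r)⁻¹) * φ r = a by group] at this
  -- the stabilizer of the involutions of `A`
  set N := normalizer (A : Set G) with hN
  set D := (N ⊓ centralizer {a : G | a ∈ A ∧ a * a = 1}).subgroupOf N with hD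
  have hDmem : ∀ d : N, d ∈ D ↔ ∀ a ∈ A, a * a = 1 → a * (d : G) = d * a := fun d => by
    rw [hD, mem_subgroupOf, mem_inf, mem_centralizer_iff]
    exact ⟨fun h a ha ha2 => h.2 a ⟨ha, ha2⟩, fun h => ⟨d.2, fun a ha => h a ha.1 ha.2⟩⟩
  haveI hDn : D.Normal := ⟨fun d hd g => (hDmem _).2 fun a ha ha2 => by
    have hga : (g : G)⁻¹ * a * g ∈ A := by
      have := (mem_normalizer_iff.1 (inv_mem g.2) a).1 ha; rwa [inv_inv] at this
    have h1 := (hDmem d).1 hd _ hga (by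
      rw [show (g : G)⁻¹ * a * g * ((g : G)⁻¹ * a * g) = (g : G)⁻¹ * (a * a) * g by group, ha2]; group)
    show a * ((g : G) * d * (g : G)⁻¹) = g * d * (g : G)⁻¹ * a
    calc a * ((g : G) * d * (g : G)⁻¹) = g * (((g : G)⁻¹ * a * g) * d) * (g : G)⁻¹ := by group
      _ = g * (d * ((g : G)⁻¹ * a * g)) * (g : G)⁻¹ := by rw [h1]
      _ = _ := by group⟩
  have hkD : (⟨φ k, hSN (H.mem k)⟩ : N) ∈ D := by
    refine (hDmem _).2 fun a ha ha2 => ?_
    obtain ⟨q, rfl⟩ := H.exists_code ha.1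
    have hq := hΩ q ((hmemA q).1 ha) (H.inj (by rw [H.map, ha2, H.one]))
    refine (H.comm_iff.1 ?_)
    rcases hq with rfl | rfl | rfl | rfl
    · refine H.inj ?_; rw [H.map, H.map, H.one, one_mul, mul_one]
    · exact hcen k
    · exact hk8.symm
    · refine H.comm_iff.2 ?_
      rw [← h84, H.map]
      exact (Commute.mul_left (H.comm_iff.1 hk8.symm) (H.comm_iff.1 (hcen k))).eq
  have hhkD : (⟨h, hhN⟩ * ⟨φ k, hSN (H.mem k)⟩ * ⟨h, hhN⟩⁻¹ : N) ∈ D := hDn.conj_mem _ hkD _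
  set hk' : D := ⟨_, hhkD⟩ with hhk'
  -- `S ∩ D` is a Sylow subgroup of `D`
  let T0 : Sylow 2 N := S.subtype hSN
  have hpow : IsPGroup 2 (zpowers hk') := by
    intro ⟨q, i, hq⟩
    refine ⟨6, Subtype.ext ?_⟩
    show q ^ 2 ^ 6 = 1
    rw [← hq]
    show (hk' ^ i) ^ 2 ^ 6 = 1
    rw [← zpow_natCast (hk' ^ i), ← zpow_mul, mul_comm, zpow_mul, zpow_natCast]
    have h1 : hk' ^ 2 ^ 6 = 1 := by
      apply Subtype.ext; apply Subtype.ext
      show (h * φ k * h⁻¹) ^ 2 ^ 6 = 1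
      rw [conj_pow]
      have h2 : φ k ^ 2 ^ 6 = 1 := by
        have hc : Nat.card (S : Subgroup G) = 64 := by
          show Nat.card ((S : Subgroup G) : Set G) = 64
          rw [← H.range, Nat.card_range_of_injective H.inj, Nat.card_fin]
        have h3 := orderOf_dvd_natCard (⟨φ k, H.mem k⟩ : ↥(S : Subgroup G))
        rw [hc, Subgroup.orderOf_mk] at h3
        exact orderOf_dvd_iff_pow_eq_one.1 h3
      rw [h2, mul_one, mul_inv_cancel]
    rw [h1, one_zpow]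
  obtain ⟨R1, hR1⟩ := hpow.exists_le_sylow
  obtain ⟨R0, hR0⟩ := (T0.2.comap_of_injective D.subtype D.subtype_injective).exists_le_sylow
  obtain ⟨d, hd⟩ := MulAction.exists_smul_eq D R0 R1
  have hR0T : ∀ r ∈ (R0 : Subgroup D), ((r : N) : G) ∈ (S : Subgroup G) := by
    -- a Sylow subgroup of the normal subgroup `D` lies in a conjugate of `T0`
    obtain ⟨T1, hT1⟩ := (R0.2.map D.subtype).exists_le_sylow
    obtain ⟨n, hn⟩ := MulAction.exists_smul_eq N T1 T0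
    have hle : Nat.card (R0 : Subgroup D) ≤ Nat.card ((T0 : Subgroup N).comap D.subtype) := by
      refine Nat.card_le_card_of_injective (fun r => ⟨⟨n * (r : D) * n⁻¹, hDn.conj_mem _ r.1.2 n⟩, ?_⟩) ?_
      · show n * (r : D) * n⁻¹ ∈ (T0 : Subgroup N)
        rw [← hn]
        exact Subgroup.smul_mem_pointwise_smul _ (MulAut.conj n) _ (hT1 ⟨r.1, r.2, rfl⟩)
      · intro r r' hrr
        have h1 := congrArg (fun u : (T0 : Subgroup N).comap D.subtype => ((u : D) : N)) hrr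
        exact Subtype.ext (Subtype.ext (mul_left_cancel (mul_right_cancel h1)))
    have heq := eq_of_le_of_card_ge hR0 hle
    intro r hr
    rw [← heq] at hr
    exact mem_subgroupOf.1 (show (r : N) ∈ (S : Subgroup G).subgroupOf N from hr)
  have hmem : hk' ∈ (R1 : Subgroup D) := hR1 (mem_zpowers _)
  rw [← hd, Sylow.coe_subgroup_smul] at hmem
  obtain ⟨r, hr, hrk⟩ := hmem
  have hrk' : ((d : N) : G) * ((r : N) : G) * ((d : N) : G)⁻¹ = h * φ k * h⁻¹ :=
    congrArg (fun u : D => ((u : N) : G)) hrk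
  obtain ⟨k', hk''⟩ := H.exists_code (hR0T r hr)
  set δ : G := ((d : N) : G) with hδ
  have hδA : ∀ a ∈ A, δ * a * δ⁻¹ ∈ A := fun a ha => (mem_normalizer_iff.1 (d : N).2 a).1 ha
  have hδW : ∀ a ∈ A, a * a = 1 → a * δ = δ * a := (hDmem _).1 d.2
  have h8A : φ 8 ∈ A := by rw [← hxx, H.map]; exact mul_mem hxA hxA
  have h4A : φ 4 ∈ A := hh8 ▸ hhA _ h8A
  have hk'8 : p.m k' 8 = p.m 8 k' := H.comm_iff.2 (by
    rw [hk'']; exact ((hDmem _).1 r.2 _ h8A (by rw [← H.map, h88, H.one])).symm)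
  -- the element taken to `e` by `d`
  have he1A : δ⁻¹ * φ e * δ ∈ A := by
    have := (mem_normalizer_iff.1 (inv_mem (d : N).2) (φ e)).1 heA
    simpa using this
  obtain ⟨e1, he1⟩ := H.exists_code he1A.1
  have he1sq : p.m e1 e1 = 4 := H.inj (by
    rw [H.map, he1, show δ⁻¹ * φ e * δ * (δ⁻¹ * φ e * δ) = δ⁻¹ * (φ e * φ e) * δ by group, ← H.map, hee,
      mul_assoc, hδW _ h4A (by rw [← H.map, h44, H.one]), inv_mul_cancel_left])
  have he1A' : p.m e1 x = p.m x e1 := (hmemA e1).1 (by rw [he1]; exact he1A)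
  -- the commutator
  have hL : h * φ k * h⁻¹ * φ e = (h * φ 12 * h⁻¹) * (φ e * (h * φ k * h⁻¹)) := by
    rw [he, show h * φ k * h⁻¹ * (h * φ x * h⁻¹) = h * (φ k * φ x) * h⁻¹ by group, ← H.map, hkx, H.map, H.map]
    group
  have hC : ∃ c : Fin 64, (c = 0 ∨ c = 4) ∧ φ k' * φ e1 = φ c * φ e1 * φ k' := by
    rcases hact k' e1 hk'8 he1A' he1sq with h1 | h1
    · exact ⟨0, Or.inl rfl, by rw [H.one, one_mul]; exact H.comm_iff.1 h1⟩
    · exact ⟨4, Or.inr rfl, by rw [← H.map, h1, H.map, H.map]⟩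
  obtain ⟨c, hc, hce⟩ := hC
  have hcW : φ c * δ = δ * φ c := by
    rcases hc with rfl | rfl
    · rw [H.one, one_mul, mul_one]
    · exact hδW _ h4A (by rw [← H.map, h44, H.one])
  have hR : h * φ k * h⁻¹ * φ e = φ c * (φ e * (h * φ k * h⁻¹)) := by
    rw [← hrk', ← hk'', show φ e = δ * φ e1 * δ⁻¹ by rw [he1]; group,
      show δ * φ k' * δ⁻¹ * (δ * φ e1 * δ⁻¹) = δ * (φ k' * φ e1) * δ⁻¹ by group, hce,
      show φ c * (δ * φ e1 * δ⁻¹ * (δ * φ k' * δ⁻¹)) = (φ c * δ) * φ e1 * φ k' * δ⁻¹ by group, hcW]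
    group
  have h12 : h * φ 12 * h⁻¹ = φ c := mul_right_cancel (hL.symm.trans hR)
  rcases hc with rfl | rfl
  · rw [H.one, conj_eq_one_iff, ← H.one] at h12
    exact absurd (H.inj h12) (by decide)
  · exact absurd (H.inj (mul_left_cancel (mul_right_cancel (h12.trans hh8.symm)))) (by decide)

end Rep

end Cfsg.Agent.M12SelfCent
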