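import Cfsg.Agent.Lib.M12SelfCent.Checks1
import Cfsg.Agent.Lib.M12SelfCent.Checks2
import Cfsg.Agent.Lib.M12SelfCent.Checks3
import Cfsg.Agent.Lib.M12SelfCent.Checks4

/-!
All admissible parameters, each with a checked certificate.
-/

set_option autoImplicit false
set_option linter.all false
set_option maxRecDepth 100000
set_option maxHeartbeats 0

namespace Cfsg.Agent.M12SelfCent

/-- The admissible parameters. -/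
def params : List Prm :=
  [⟨0, 8, 24, 0⟩, 
    ⟨0, 8, 24, 4⟩, 
    ⟨0, 8, 26, 0⟩, 
    ⟨0, 8, 26, 4⟩, 
    ⟨0, 8, 28, 0⟩, 
    ⟨0, 8, 28, 4⟩, 
    ⟨0, 8, 30, 0⟩, 
    ⟨0, 8, 30, 4⟩, 
    ⟨0, 12, 24, 10⟩, 
    ⟨0, 12, 24, 14⟩, 
    ⟨0, 12, 26, 10⟩, 
    ⟨0, 12, 26, 14⟩, 
    ⟨0, 12, 28, 10⟩, 
    ⟨0, 12, 28, 14⟩, 
    ⟨0, 12, 30, 10⟩, 
    ⟨0, 12, 30, 14⟩, 
    ⟨1, 8, 16, 0⟩, 
    ⟨1, 8, 16, 4⟩, 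
    ⟨1, 8, 18, 0⟩, 
    ⟨1, 8, 18, 4⟩, 
    ⟨1, 8, 20, 0⟩, 
    ⟨1, 8, 20, 4⟩, 
    ⟨1, 8, 22, 0⟩, 
    ⟨1, 8, 22, 4⟩, 
    ⟨1, 12, 16, 10⟩, 
    ⟨1, 12, 16, 14⟩, 
    ⟨1, 12, 18, 10⟩, 
    ⟨1, 12, 18, 14⟩, 
    ⟨1, 12, 20, 10⟩, 
    ⟨1, 12, 20, 14⟩, 
    ⟨1, 12, 22, 10⟩, 
    ⟨1, 12, 22, 14⟩]

theorem ok_params : ∀ p ∈ params, ∃ c, Prm.Ok p c := by
  intro p hp
  simp only [params, List.mem_cons, List.not_mem_nil, or_false] at hp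
  rcases hp with rfl | rfl | rfl | rfl | rfl | rfl | rfl | rfl | rfl | rfl | rfl | rfl | rfl | rfl | rfl | rfl | rfl | rfl | rfl | rfl | rfl | rfl | rfl | rfl | rfl | rfl | rfl | rfl | rfl | rfl | rfl | rfl
  · exact ⟨_, ok0⟩
  · exact ⟨_, ok1⟩
  · exact ⟨_, ok2⟩
  · exact ⟨_, ok3⟩
  · exact ⟨_, ok4⟩
  · exact ⟨_, ok5⟩
  · exact ⟨_, ok6⟩
  · exact ⟨_, ok7⟩
  · exact ⟨_, ok8⟩
  · exact ⟨_, ok9⟩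
  · exact ⟨_, ok10⟩
  · exact ⟨_, ok11⟩
  · exact ⟨_, ok12⟩
  · exact ⟨_, ok13⟩
  · exact ⟨_, ok14⟩
  · exact ⟨_, ok15⟩
  · exact ⟨_, ok16⟩
  · exact ⟨_, ok17⟩
  · exact ⟨_, ok18⟩
  · exact ⟨_, ok19⟩
  · exact ⟨_, ok20⟩
  · exact ⟨_, ok21⟩
  · exact ⟨_, ok22⟩
  · exact ⟨_, ok23⟩
  · exact ⟨_, ok24⟩
  · exact ⟨_, ok25⟩
  · exact ⟨_, ok26⟩
  · exact ⟨_, ok27⟩
  · exact ⟨_, ok28⟩
  · exact ⟨_, ok29⟩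
  · exact ⟨_, ok30⟩
  · exact ⟨_, ok31⟩

theorem mem_params_fst : ∀ k : Fin 2, ∀ al : Fin 32, mulN k al al = 0 → mulN k al 9 = mulN k (powN k 9 5) al →
    ∀ ga : Fin 32, mulN k ga ga = 0 → mulN k ga 9 = mulN k (powN k 9 3) ga →
    mulN k ga al = mulN k (mulN k al (powN k 9 (4 * k))) ga → ∀ n : Fin 32,
    (⟨k, al, ga, n⟩ : Prm).th n = n → mulN k n 1 = mulN k ((⟨k, al, ga, n⟩ : Prm).th ((⟨k, al, ga, n⟩ : Prm).th 1)) n →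
    mulN k n 8 = mulN k ((⟨k, al, ga, n⟩ : Prm).th ((⟨k, al, ga, n⟩ : Prm).th 8)) n →
    mulN k n 16 = mulN k ((⟨k, al, ga, n⟩ : Prm).th ((⟨k, al, ga, n⟩ : Prm).th 16)) n →
    (⟨k, al, ga, n⟩ : Prm) ∈ params := by
  decide +kernel

theorem Prm.exists_cert {p : Prm} (h : p.Valid) : ∃ c, p.Ok c := by
  obtain ⟨k, al, ga, n⟩ := p
  obtain ⟨h1, h2, h3, h4, h5, h6, h7, h8, h9⟩ := h
  exact ok_params _ (mem_params_fst k al h1 h2 ga h3 h4 h5 n h6 h7 h8 h9)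

end Cfsg.Agent.M12SelfCent
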