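import Cfsg.Agent.Lib.M12SelfCent.Relations
import Cfsg.Agent.Lib.M12SelfCent.Table
import Cfsg.Agent.Lib.M12SelfCent.Square

/-!
A simple group with two classes of involutions and such a Sylow 2-subgroup has the Sylow 2-subgroup of
`M₁₂`.
-/

set_option autoImplicit false
set_option linter.all false

namespace Cfsg.Agent.M12SelfCent

variable {G : Type*} [Group G] [Finite G] [IsSimpleGroup G]

/-- The Sylow 2-subgroup is that of `M₁₂`. -/
theorem exists_model (hna : ¬ IsMulCommutative G) (P : Sylow 2 G) (hP : Nat.card (P : Subgroup G) = 64)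
    (f : G) (hfP : f ∈ (P : Subgroup G)) (hf : orderOf f = 8)
    (hself : ∀ x ∈ (P : Subgroup G), x * f = f * x → x ∈ Subgroup.zpowers f)
    (hodd : ∀ k ∈ ({3, 5, 7} : Set ℕ), ∃ x ∈ (P : Subgroup G), x * f * x⁻¹ = f ^ k)
    (htwo : ∃ s t : G, orderOf s = 2 ∧ orderOf t = 2 ∧ ¬ IsConj s t) :
    ∃ ι : G2Type.Mdl 4 →* G, Function.Injective ι ∧ ι.range = (P : Subgroup G) := by
  obtain ⟨p, φ, hval, hinj, hmap, hrange⟩ := exists_rule (P : Subgroup G) hP f hfP hf hself hodd
  have H : Rep P p φ := ⟨hinj, hmap, hrange⟩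
  obtain ⟨c, hc⟩ := Prm.exists_cert hval
  cases c with
  | transfer v =>
    obtain ⟨s, t, hs, ht, hn⟩ := htwo
    exact absurd (H.one_class hna hc.1 hc.2 s t hs ht) hn
  | square v x x' k => exact (H.square_false hna hc.1 hc.2).elim
  | model Q₁ Q₂ U V =>
    obtain ⟨hhom, hsurj⟩ := hc
    let img : G2Type.Mdl 4 → Fin 64 := p.image Q₁ Q₂ U V
    have hs : Function.Surjective img := fun x => by
      obtain ⟨a, b, i, j, h⟩ := hsurj x
      exact ⟨_, h⟩
    have hb : Function.Bijective img := by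
      haveI := Fintype.ofFinite (G2Type.Mdl 4)
      refine (Fintype.bijective_iff_surjective_and_card _).2 ⟨hs, ?_⟩
      rw [← Nat.card_eq_fintype_card, G2Type.Mdl.card_eq, Fintype.card_fin]; norm_num
    refine ⟨MonoidHom.mk' (fun e => φ (img e)) fun e e' => ?_, hinj.comp hb.1, ?_⟩
    · rw [← hmap]
      exact congrArg φ (hhom e.p e.q e.i e.j e'.p e'.q e'.i e'.j).symm
    · refine SetLike.coe_injective ?_
      rw [MonoidHom.coe_range, ← hrange]
      exact hs.range_comp φ

end Cfsg.Agent.M12SelfCent
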