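import Mathlib
import Cfsg.Agent.Lib.G2Type.Model

/-!
The groups of order 64 with an element of order 8 that is self-centralizing and conjugate to all its odd
powers, as multiplication rules on `Fin 64`, with the finite checks used to tell them apart.

`i + 8 j + 16 l + 32 e` stands for `f ^ i * a ^ j * c ^ l * y ^ e`.
-/

set_option autoImplicit false
set_option linter.all false
set_option maxRecDepth 100000

namespace Cfsg.Agent.M12SelfCent

/-- The product in the subgroup of index two: `a f a = f ^ 5`, `c f c = f ^ 3`, `c a c = a f ^ (4 k)`. -/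
def mulN (k : ℕ) (x y : Fin 32) : Fin 32 :=
  let i := x.1 % 8; let j := x.1 / 8 % 2; let l := x.1 / 16
  let i' := y.1 % 8; let j' := y.1 / 8 % 2; let l' := y.1 / 16
  ⟨(i + (1 + 4 * j) * (1 + 2 * l) * i' + 4 * k * l * j') % 8 + 8 * ((j + j') % 2) + 16 * ((l + l') % 2), by omega⟩

/-- The parameters: `y f y⁻¹ = f a`, `y a y⁻¹ = al`, `y c y⁻¹ = ga`, `y * y = n`. -/
structure Prm where
  k : Fin 2
  al : Fin 32
  ga : Fin 32
  n : Fin 32
  deriving DecidableEq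

/-- Powers. -/
def powN (k : ℕ) (x : Fin 32) : ℕ → Fin 32
  | 0 => 0
  | m + 1 => mulN k (powN k x m) x

/-- Conjugation by `y`. -/
def Prm.th (p : Prm) (x : Fin 32) : Fin 32 :=
  mulN p.k (mulN p.k (powN p.k 9 (x.1 % 8)) (powN p.k p.al (x.1 / 8 % 2))) (powN p.k p.ga (x.1 / 16))

/-- The product. -/
def Prm.m (p : Prm) (x y : Fin 64) : Fin 64 :=
  let x0 : Fin 32 := ⟨x.1 % 32, by omega⟩
  let y0 : Fin 32 := ⟨y.1 % 32, by omega⟩
  if x.1 / 32 = 0 then ⟨(mulN p.k x0 y0).1 + 32 * (y.1 / 32), by omega⟩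
  else if y.1 / 32 = 0 then ⟨(mulN p.k x0 (p.th y0)).1 + 32, by omega⟩
  else ⟨(mulN p.k (mulN p.k x0 (p.th y0)) p.n).1, by omega⟩

/-- What holds of the parameters in a group. -/
def Prm.Valid (p : Prm) : Prop :=
  mulN p.k p.al p.al = 0 ∧ mulN p.k p.al 9 = mulN p.k (powN p.k 9 5) p.al ∧
  mulN p.k p.ga p.ga = 0 ∧ mulN p.k p.ga 9 = mulN p.k (powN p.k 9 3) p.ga ∧
  mulN p.k p.ga p.al = mulN p.k (mulN p.k p.al (powN p.k 9 (4 * p.k))) p.ga ∧
  p.th p.n = p.n ∧ mulN p.k p.n 1 = mulN p.k (p.th (p.th 1)) p.n ∧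
  mulN p.k p.n 8 = mulN p.k (p.th (p.th 8)) p.n ∧ mulN p.k p.n 16 = mulN p.k (p.th (p.th 16)) p.n

/-- How a parameter set is dealt with. -/
inductive Cert
  /-- a character whose kernel meets the involutions only in the central four-group -/
  | transfer (v : Fin 16)
  /-- an isomorphism with the model, by the images of `(1,0)`, `(0,1)`, `u`, `v` -/
  | model (P Q U V : Fin 64)
  /-- a character and two generators of the homocyclic subgroup, and an element acting on it -/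
  | square (v : Fin 16) (x x' k : Fin 64)

/-- The character with given values on `f`, `a`, `c`, `y`. -/
def chi (v : Fin 16) (x : Fin 64) : Bool :=
  (x.1 % 8 * (v.1 % 2) + x.1 / 8 % 2 * (v.1 / 2 % 2) + x.1 / 16 % 2 * (v.1 / 4 % 2) + x.1 / 32 * (v.1 / 8)) % 2 == 1

/-- An involution. -/
def Prm.Inv (p : Prm) (x : Fin 64) : Prop := x ≠ 0 ∧ p.m x x = 0

instance (p : Prm) (x : Fin 64) : Decidable (p.Inv x) := inferInstanceAs (Decidable (_ ∧ _))

/-- The central four-group, less the identity. -/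
def InW (x : Fin 64) : Prop := x = 4 ∨ x = 8 ∨ x = 12

instance (x : Fin 64) : Decidable (InW x) := inferInstanceAs (Decidable (_ ∨ _))

/-- What all parameter sets share. -/
def Prm.Common (p : Prm) : Prop :=
  p.m 4 4 = 0 ∧ p.m 8 8 = 0 ∧ p.m 8 4 = 12 ∧ (∀ x, p.m 4 x = p.m x 4) ∧
  (∃ g, p.m g 8 = p.m 12 g) ∧ (∀ x, p.Inv (p.m x x) → InW (p.m x x))

/-- The checks of the first kind. -/
def Prm.Transfer (p : Prm) (v : Fin 16) : Prop :=
  (∀ x y, chi v (p.m x y) = xor (chi v x) (chi v y)) ∧ (∃ x, chi v x = true) ∧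
  (∀ u, p.Inv u → chi v u = false → InW u) ∧
  (∀ u, p.Inv u → ¬ InW u → (∃ w, p.m u w = p.m w u ∧ p.m w w = 4) ∨
    (p.m u 8 = p.m 8 u ∧ (∃ g, p.m g u = p.m (p.m u 4) g) ∧ (∃ g, p.m g u = p.m (p.m u 8) g) ∧
      ∃ g, p.m g u = p.m (p.m u 12) g)) ∧
  ∀ r q, p.Inv r → p.Inv q → p.m r q = p.m q r → r ≠ 4 → q ≠ 4 → q ≠ r → q ≠ p.m r 4 →
    r = 8 ∨ q = 8 ∨ p.m r q = 8 ∨ p.m r 4 = 8 ∨ p.m q 4 = 8 ∨ p.m (p.m r q) 4 = 8

/-- Powers. -/
def Prm.pw (p : Prm) (x : Fin 64) : ℕ → Fin 64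
  | 0 => 0
  | m + 1 => p.m (p.pw x m) x

/-- The image of a point of the model. -/
def Prm.image (p : Prm) (P Q U V : Fin 64) (e : G2Type.Mdl 4) : Fin 64 :=
  p.m (p.m (p.m (p.pw P e.p.val) (p.pw Q e.q.val)) (if e.i then U else 0)) (if e.j then V else 0)

/-- The checks of the second kind. -/
def Prm.IsModel (p : Prm) (P Q U V : Fin 64) : Prop :=
  (∀ a b i j a' b' i' j', p.m (p.image P Q U V ⟨a, b, i, j⟩) (p.image P Q U V ⟨a', b', i', j'⟩) =
    p.image P Q U V (⟨a, b, i, j⟩ * ⟨a', b', i', j'⟩)) ∧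
  ∀ x, ∃ a b i j, p.image P Q U V ⟨a, b, i, j⟩ = x

/-- An element of order four. -/
def Prm.Four (p : Prm) (x : Fin 64) : Prop := p.m x x ≠ 0 ∧ p.m (p.m x x) (p.m x x) = 0

instance (p : Prm) (x : Fin 64) : Decidable (p.Four x) := inferInstanceAs (Decidable (_ ∧ _))

/-- The checks of the third kind. -/
def Prm.Square (p : Prm) (v : Fin 16) (x x' k : Fin 64) : Prop :=
  (∀ a b, chi v (p.m a b) = xor (chi v a) (chi v b)) ∧ (∀ u, p.Inv u → chi v u = false) ∧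
  (chi v x = true ∧ p.m x x = 8 ∧ p.m x x' = p.m x' x ∧ p.Four x' ∧ p.m x' x' ≠ 8) ∧
  (∀ e i, chi v e = true → p.Four e → p.Inv i → p.m i e = p.m e i → InW i) ∧
  (∀ y, chi v y = false → p.Four y → p.m y y = 4 ∧ ∃ i j, p.Inv i ∧ p.m i y = p.m y i ∧ p.Inv j ∧
    p.m j y = p.m y j ∧ i ≠ p.m y y ∧ j ≠ p.m y y ∧ j ≠ i ∧ j ≠ p.m i (p.m y y)) ∧
  (∀ r q, p.Four r → p.Four q → p.m r q = p.m q r → p.m r r ≠ p.m q q → p.m r x = p.m x r) ∧
  (∀ r, p.m r x = p.m x r → ∃ i j : Fin 4, p.m (p.pw x i) (p.pw x' j) = r) ∧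
  (∀ r q, p.m q x = p.m x q → ∃ s, p.m s x = p.m x s ∧ p.m r q = p.m s r) ∧
  (∀ q, p.m q x = p.m x q → p.m q q = 0 → q = 0 ∨ InW q) ∧
  (∀ q, p.m q x = p.m x q → q = 4 ∨ q = 8 → p.m q q = 0) ∧
  (p.m k 8 = p.m 8 k ∧ p.m k x = p.m (p.m 12 x) k) ∧
  ∀ k' e, p.m k' 8 = p.m 8 k' → p.m e x = p.m x e → p.m e e = 4 →
    p.m k' e = p.m e k' ∨ p.m k' e = p.m (p.m 4 e) k'

/-- The checks of a certificate. -/
def Prm.Ok (p : Prm) : Cert → Prop
  | .transfer v => p.Common ∧ p.Transfer v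
  | .model P Q U V => p.IsModel P Q U V
  | .square v x x' k => p.Common ∧ p.Square v x x' k

end Cfsg.Agent.M12SelfCent
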