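import Cfsg.Agent.Lib.M12SelfCent.Model

/-!
A group of order 64 with a self-centralizing element of order 8 conjugate to its odd powers follows one of
the multiplication rules.
-/

set_option autoImplicit false
set_option linter.all false
set_option maxRecDepth 100000

namespace Cfsg.Agent.M12SelfCent

theorem move_cases : ∀ k : Fin 2, ∀ w : Fin 32, powN k w 4 ≠ 0 → powN k w 8 = 0 →
    ∃ n : Fin 32, mulN k n w = mulN k 1 n ∨ mulN k n w = mulN k 9 n := by
  decide +kernel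

variable {G : Type*} [Group G]

/-- The element with given code. -/
def phiN (f a c : G) (x : Fin 32) : G := f ^ (x.1 % 8) * a ^ (x.1 / 8 % 2) * c ^ (x.1 / 16)

theorem phiN_mul {f a c : G} {k : ℕ} (hf : f ^ 8 = 1) (ha : a * a = 1) (hc : c * c = 1)
    (haf : a * f = f ^ 5 * a) (hcf : c * f = f ^ 3 * c) (hca : c * a = a * f ^ (4 * k) * c) (x y : Fin 32) :
    phiN f a c x * phiN f a c y = phiN f a c (mulN k x y) := by
  have hmod : ∀ e : ℕ, f ^ e = f ^ (e % 8) := fun e => pow_eq_pow_mod e hf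
  have hA : ∀ j < 2, ∀ i : ℕ, a ^ j * f ^ i = f ^ ((1 + 4 * j) * i) * a ^ j := by
    intro j hj i
    interval_cases j
    · simp
    · rw [pow_one]
      have h1 : SemiconjBy a f (f ^ 5) := haf
      have := (h1.pow_right i).eq
      rwa [← pow_mul] at this
  have hC : ∀ l < 2, ∀ i : ℕ, c ^ l * f ^ i = f ^ ((1 + 2 * l) * i) * c ^ l := by
    intro l hl i
    interval_cases l
    · simp
    · rw [pow_one]
      have h1 : SemiconjBy c f (f ^ 3) := hcf
      have := (h1.pow_right i).eq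
      rwa [← pow_mul] at this
  have hCA : ∀ l < 2, ∀ j < 2, c ^ l * a ^ j = a ^ j * f ^ (4 * k * l * j) * c ^ l := by
    intro l hl j hj
    interval_cases l <;> interval_cases j <;> simp [hca]
  have hAA : ∀ j j' : ℕ, a ^ j * a ^ j' = a ^ ((j + j') % 2) := fun j j' => by
    rw [← pow_add]; exact pow_eq_pow_mod _ (by rw [sq, ha])
  have hCC : ∀ l l' : ℕ, c ^ l * c ^ l' = c ^ ((l + l') % 2) := fun l l' => by
    rw [← pow_add]; exact pow_eq_pow_mod _ (by rw [sq, hc])
  set i := x.1 % 8 with hi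
  set j := x.1 / 8 % 2 with hj
  set l := x.1 / 16 with hl
  set i' := y.1 % 8 with hi'
  set j' := y.1 / 8 % 2 with hj'
  set l' := y.1 / 16 with hl'
  have hl2 : l < 2 := by omega
  have hj2 : j < 2 := by omega
  have hj2' : j' < 2 := by omega
  have h5 : f ^ ((1 + 4 * ((j + j') % 2)) * (4 * k * l * j')) = f ^ (4 * k * l * j') := by
    rw [show (1 + 4 * ((j + j') % 2)) * (4 * k * l * j') = 4 * k * l * j' + 8 * (2 * ((j + j') % 2) * k * l * j') by ring,
      pow_add, pow_mul f 8, hf, one_pow, mul_one]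
  have key : phiN f a c x * phiN f a c y =
      f ^ (i + (1 + 4 * j) * (1 + 2 * l) * i' + 4 * k * l * j') * a ^ ((j + j') % 2) * c ^ ((l + l') % 2) := by
    calc phiN f a c x * phiN f a c y = f ^ i * a ^ j * (c ^ l * f ^ i') * a ^ j' * c ^ l' := by
          simp only [phiN, ← hi, ← hj, ← hl, ← hi', ← hj', ← hl', mul_assoc]
      _ = f ^ i * (a ^ j * f ^ ((1 + 2 * l) * i')) * (c ^ l * a ^ j') * c ^ l' := by
          rw [hC l hl2 i']; simp only [mul_assoc]
      _ = f ^ i * f ^ ((1 + 4 * j) * ((1 + 2 * l) * i')) * (a ^ j * a ^ j' * f ^ (4 * k * l * j')) * (c ^ l * c ^ l') := by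
          rw [hA j hj2, hCA l hl2 j' hj2']; simp only [mul_assoc]
      _ = f ^ (i + (1 + 4 * j) * ((1 + 2 * l) * i')) * (a ^ ((j + j') % 2) * f ^ (4 * k * l * j')) * c ^ ((l + l') % 2) := by
          rw [hAA, hCC, ← pow_add]
      _ = f ^ (i + (1 + 4 * j) * ((1 + 2 * l) * i')) * f ^ (4 * k * l * j') * a ^ ((j + j') % 2) * c ^ ((l + l') % 2) := by
          rw [hA _ (Nat.mod_lt _ two_pos), h5]; simp only [mul_assoc]
      _ = _ := by rw [← pow_add, mul_assoc (1 + 4 * j)]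
  rw [key, phiN]
  have e1 : (mulN k x y).1 % 8 = (i + (1 + 4 * j) * (1 + 2 * l) * i' + 4 * k * l * j') % 8 := by
    simp only [mulN, ← hi, ← hj, ← hl, ← hi', ← hj', ← hl']; omega
  have e2 : (mulN k x y).1 / 8 % 2 = (j + j') % 2 := by
    simp only [mulN, ← hi, ← hj, ← hl, ← hi', ← hj', ← hl']; omega
  have e3 : (mulN k x y).1 / 16 = (l + l') % 2 := by
    simp only [mulN, ← hi, ← hj, ← hl, ← hi', ← hj', ← hl']; omega
  rw [e1, e2, e3, ← hmod]

theorem phiN_conj {f a c : G} (haf : a * f = f ^ 5 * a) (hcf : c * f = f ^ 3 * c) (x : Fin 32) :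
    phiN f a c x * f = f ^ ((1 + 4 * (x.1 / 8 % 2)) * (1 + 2 * (x.1 / 16))) * phiN f a c x := by
  have hj : x.1 / 8 % 2 < 2 := Nat.mod_lt _ two_pos
  have hl : x.1 / 16 < 2 := by omega
  have h1 : SemiconjBy a f (f ^ 5) := haf
  have h2 : SemiconjBy c f (f ^ 3) := hcf
  unfold phiN
  interval_cases hJ : x.1 / 8 % 2 <;> interval_cases hL : x.1 / 16 <;>
    simp only [pow_zero, pow_one, mul_one, one_mul, mul_zero, add_zero]
  · exact (Commute.pow_self f _).eq.trans rfl
  · rw [mul_assoc, hcf, ← mul_assoc, ← pow_add, ← mul_assoc, ← pow_add, add_comm]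
  · rw [mul_assoc, haf, ← mul_assoc, ← pow_add, ← mul_assoc, ← pow_add, add_comm]
  · rw [mul_assoc, hcf, ← mul_assoc, mul_assoc (f ^ (x.1 % 8)) a, (h1.pow_right 3).eq, ← pow_mul, ← mul_assoc,
      ← pow_add, ← mul_assoc, ← mul_assoc, ← pow_add, add_comm]

theorem phiN_inj {f a c : G} (hf : orderOf f = 8) (haf : a * f = f ^ 5 * a) (hcf : c * f = f ^ 3 * c) :
    Function.Injective (phiN f a c) := by
  intro x y h
  have h1 := phiN_conj haf hcf x
  rw [h, phiN_conj haf hcf y] at h1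
  have h2 := mul_right_cancel h1
  rw [pow_inj_mod, hf] at h2
  have hl : x.1 / 16 < 2 := by omega
  have hl' : y.1 / 16 < 2 := by omega
  have hj : x.1 / 8 % 2 < 2 := Nat.mod_lt _ two_pos
  have hj' : y.1 / 8 % 2 < 2 := Nat.mod_lt _ two_pos
  obtain ⟨hJ, hL⟩ : x.1 / 8 % 2 = y.1 / 8 % 2 ∧ x.1 / 16 = y.1 / 16 := by
    interval_cases x.1 / 8 % 2 <;> interval_cases x.1 / 16 <;> interval_cases y.1 / 8 % 2 <;>
      interval_cases y.1 / 16 <;> omega
  unfold phiN at h
  rw [hJ, hL] at h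
  have h3 := mul_right_cancel (mul_right_cancel h)
  rw [pow_inj_mod, hf] at h3
  exact Fin.ext (by omega)

variable [Finite G]

/-- The reduction. -/
theorem exists_rule (P : Subgroup G) (hP : Nat.card P = 64) (f : G) (hfP : f ∈ P) (hf : orderOf f = 8)
    (hself : ∀ x ∈ P, x * f = f * x → x ∈ Subgroup.zpowers f)
    (hodd : ∀ k ∈ ({3, 5, 7} : Set ℕ), ∃ x ∈ P, x * f * x⁻¹ = f ^ k) :
    ∃ (p : Prm) (φ : Fin 64 → G), p.Valid ∧ Function.Injective φ ∧ (∀ x y, φ (p.m x y) = φ x * φ y) ∧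
      Set.range φ = P := by
  classical
  have hf8 : f ^ 8 = 1 := hf ▸ pow_orderOf_eq_one f
  have hpow : ∀ x ∈ P, x * f = f * x → ∃ i < 8, f ^ i = x := by
    intro x hx hc
    obtain ⟨i, hi, h⟩ := Finset.mem_image.1 ((mem_zpowers_iff_mem_range_orderOf).1 (hself x hx hc))
    exact ⟨i, by rw [hf] at hi; exact Finset.mem_range.1 hi, h⟩
  have hcongr : ∀ m n : ℕ, f ^ m = f ^ n → m % 8 = n % 8 := fun m n h => by rwa [pow_inj_mod, hf] at h
  -- the element inducing the fifth power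
  obtain ⟨x5, hx5P, hx5⟩ := hodd 5 (by simp)
  obtain ⟨a, haP, ha, haf⟩ : ∃ a ∈ P, a * a = 1 ∧ a * f = f ^ 5 * a := by
    have h : SemiconjBy x5 f (f ^ 5) := mul_inv_eq_iff_eq_mul.1 hx5
    have hi := fun i : ℕ => (h.pow_right i).eq
    simp only [← pow_mul] at hi
    obtain ⟨i, hi8, hsq⟩ := hpow (x5 * x5) (mul_mem hx5P hx5P) (by
      rw [mul_assoc, h.eq, ← mul_assoc, hi 5, ← mul_assoc, mul_assoc (f ^ (5 * 5)), pow_eq_pow_mod (5 * 5) hf8]
      simp [mul_assoc])
    have heven : i % 2 = 0 := by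
      have h1 : x5 * f ^ i = f ^ i * x5 := by rw [hsq, mul_assoc]
      rw [hi] at h1
      have := hcongr _ _ (mul_right_cancel h1)
      omega
    refine ⟨x5 * f ^ (i / 2), mul_mem hx5P (pow_mem hfP _), ?_, ?_⟩
    · calc x5 * f ^ (i / 2) * (x5 * f ^ (i / 2)) = x5 * f ^ (i / 2) * x5 * f ^ (i / 2) := by rw [← mul_assoc]
        _ = f ^ (5 * (i / 2)) * (x5 * x5) * f ^ (i / 2) := by rw [hi]; simp only [mul_assoc]
        _ = f ^ (5 * (i / 2) + i + i / 2) := by rw [← hsq, ← pow_add, ← pow_add]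
        _ = 1 := by rw [pow_eq_pow_mod _ hf8, show (5 * (i / 2) + i + i / 2) % 8 = 0 by omega, pow_zero]
    · rw [mul_assoc, ← pow_succ, pow_succ', ← mul_assoc, h.eq, mul_assoc]
  -- the element inducing the third power
  obtain ⟨x3, hx3P, hx3⟩ := hodd 3 (by simp)
  obtain ⟨c, hcP, hc, hcf⟩ : ∃ c ∈ P, c * c = 1 ∧ c * f = f ^ 3 * c := by
    have h : SemiconjBy x3 f (f ^ 3) := mul_inv_eq_iff_eq_mul.1 hx3
    have hi := fun i : ℕ => (h.pow_right i).eq
    simp only [← pow_mul] at hi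
    obtain ⟨i, hi8, hsq⟩ := hpow (x3 * x3) (mul_mem hx3P hx3P) (by
      rw [mul_assoc, h.eq, ← mul_assoc, hi 3, ← mul_assoc, mul_assoc (f ^ (3 * 3)), pow_eq_pow_mod (3 * 3) hf8]
      simp [mul_assoc])
    have heven : i % 4 = 0 := by
      have h1 : x3 * f ^ i = f ^ i * x3 := by rw [hsq, mul_assoc]
      rw [hi] at h1
      have := hcongr _ _ (mul_right_cancel h1)
      omega
    refine ⟨x3 * f ^ (i / 4), mul_mem hx3P (pow_mem hfP _), ?_, ?_⟩
    · calc x3 * f ^ (i / 4) * (x3 * f ^ (i / 4)) = x3 * f ^ (i / 4) * x3 * f ^ (i / 4) := by rw [← mul_assoc]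
        _ = f ^ (3 * (i / 4)) * (x3 * x3) * f ^ (i / 4) := by rw [hi]; simp only [mul_assoc]
        _ = f ^ (3 * (i / 4) + i + i / 4) := by rw [← hsq, ← pow_add, ← pow_add]
        _ = 1 := by rw [pow_eq_pow_mod _ hf8, show (3 * (i / 4) + i + i / 4) % 8 = 0 by omega, pow_zero]
    · rw [mul_assoc, ← pow_succ, pow_succ', ← mul_assoc, h.eq, mul_assoc]
  -- their commutator
  obtain ⟨k, hca⟩ : ∃ k : Fin 2, c * a = a * f ^ (4 * k.1) * c := by
    have hA : ∀ i : ℕ, a * f ^ i = f ^ (5 * i) * a := fun i => by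
      rw [((show SemiconjBy a f (f ^ 5) from haf).pow_right i).eq, ← pow_mul]
    have hC : ∀ i : ℕ, c * f ^ i = f ^ (3 * i) * c := fun i => by
      rw [((show SemiconjBy c f (f ^ 3) from hcf).pow_right i).eq, ← pow_mul]
    obtain ⟨i, hi8, hfi⟩ := hpow (a * (c * a * c)) (mul_mem haP (mul_mem (mul_mem hcP haP) hcP)) (by
      calc a * (c * a * c) * f = a * (c * (a * (c * f))) := by simp only [mul_assoc]
        _ = a * (c * (a * f ^ 3 * c)) := by rw [hcf]; simp only [mul_assoc]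
        _ = a * (c * f ^ 15 * a * c) := by rw [hA]; simp only [mul_assoc]
        _ = a * f ^ 45 * c * a * c := by rw [hC]; simp only [mul_assoc]
        _ = f ^ 225 * (a * (c * a * c)) := by rw [hA]; simp only [mul_assoc]
        _ = _ := by rw [pow_eq_pow_mod 225 hf8, show 225 % 8 = 1 by norm_num, pow_one])
    have hcac : c * a * c = a * f ^ i := by rw [hfi, ← mul_assoc, ha, one_mul]
    have h2 : a * f ^ i * (a * f ^ i) = 1 := by
      rw [← hcac]
      calc c * a * c * (c * a * c) = c * a * (c * c) * a * c := by simp only [mul_assoc]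
        _ = c * (a * a) * c := by rw [hc, mul_one, mul_assoc c]
        _ = 1 := by rw [ha, mul_one, hc]
    have hi4 : i % 4 = 0 := by
      rw [show a * f ^ i * (a * f ^ i) = a * f ^ i * a * f ^ i from (mul_assoc _ _ _).symm, hA,
        mul_assoc (f ^ (5 * i)), ha, mul_one, ← pow_add] at h2
      have := hcongr _ 0 (h2.trans (pow_zero f).symm)
      omega
    refine ⟨⟨i / 4, by omega⟩, ?_⟩
    rw [show 4 * (i / 4) = i by omega, ← hcac, mul_assoc, hc, mul_one]
  -- the subgroup of index two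
  set φN := phiN f a c with hφN
  have hmul : ∀ x y, φN x * φN y = φN (mulN k x y) := phiN_mul hf8 ha hc haf hcf hca
  have hinj : Function.Injective φN := phiN_inj hf haf hcf
  have h0 : φN 0 = 1 := by simp [hφN, phiN]
  have hφP : ∀ x, φN x ∈ P := fun x => mul_mem (mul_mem (pow_mem hfP _) (pow_mem haP _)) (pow_mem hcP _)
  have hpowN : ∀ x (m : ℕ), φN (powN k x m) = φN x ^ m := by
    intro x m
    induction m with
    | zero => rw [powN, h0, pow_zero]
    | succ m ih => rw [powN, ← hmul, ih, pow_succ]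
  let N : Subgroup G := {
    carrier := Set.range φN
    one_mem' := ⟨0, h0⟩
    mul_mem' := by rintro _ _ ⟨x, rfl⟩ ⟨y, rfl⟩; exact ⟨_, (hmul x y).symm⟩
    inv_mem' := by
      rintro _ ⟨x, rfl⟩
      refine ⟨powN k x (orderOf (φN x) - 1), ?_⟩
      rw [hpowN]
      exact eq_inv_of_mul_eq_one_left (by rw [← pow_succ, Nat.sub_add_cancel (orderOf_pos _), pow_orderOf_eq_one]) }
  have hN32 : Nat.card N = 32 := by
    show Nat.card (Set.range φN) = 32
    rw [Nat.card_range_of_injective hinj, Nat.card_fin]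
  have hNP : N ≤ P := by rintro _ ⟨x, rfl⟩; exact hφP x
  set M := N.subgroupOf P with hM
  have hMidx : M.index = 2 := by
    have h := M.card_mul_index
    rw [hM, Nat.card_congr (Subgroup.subgroupOfEquivOfLe hNP).toEquiv, hN32, hP] at h
    rw [hM]; omega
  obtain ⟨y₀, hy₀P, hy₀⟩ : ∃ y ∈ P, y ∉ N := by
    by_contra hh
    push Not at hh
    have := Subgroup.card_le_of_le (show P ≤ N from hh)
    omega
  have hnorm : ∀ y ∈ P, ∀ x, ∃ w, y * φN x * y⁻¹ = φN w := fun y hy x => by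
    have := (Subgroup.normal_of_index_eq_two hMidx).conj_mem ⟨φN x, hφP x⟩ (Subgroup.mem_subgroupOf.2 ⟨x, rfl⟩) ⟨y, hy⟩
    obtain ⟨w, hw⟩ := Subgroup.mem_subgroupOf.1 this
    exact ⟨w, hw.symm⟩
  have h1f : φN 1 = f := by simp [hφN, phiN]
  have h8a : φN 8 = a := by simp [hφN, phiN]
  have h16c : φN 16 = c := by simp [hφN, phiN]
  obtain ⟨y, hyP, hyN, hyf⟩ : ∃ y ∈ P, y ∉ N ∧ y * f * y⁻¹ = φN 9 := by
    obtain ⟨w, hw⟩ := hnorm y₀ hy₀P 1
    rw [h1f] at hw
    have h4 : powN k w 4 ≠ 0 := fun e => by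
      have := hpowN w 4
      rw [e, h0, ← hw, conj_pow, eq_comm, conj_eq_one_iff] at this
      have := orderOf_dvd_of_pow_eq_one this
      rw [hf] at this
      exact absurd (Nat.le_of_dvd (by norm_num) this) (by norm_num)
    have h8 : powN k w 8 = 0 := hinj (by rw [hpowN, h0, ← hw, conj_pow, hf8, mul_one, mul_inv_cancel])
    obtain ⟨n, hn⟩ := move_cases k w h4 h8
    have hy : ∀ e, mulN k n w = mulN k e n → φN n * y₀ * f * (φN n * y₀)⁻¹ = φN e := by
      intro e he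
      rw [show φN n * y₀ * f * (φN n * y₀)⁻¹ = φN n * (y₀ * f * y₀⁻¹) * (φN n)⁻¹ by group, hw, hmul, he, ← hmul,
        mul_inv_cancel_right]
    have hnot : φN n * y₀ ∉ N := fun h => hy₀ ((N.mul_mem_cancel_left ⟨n, rfl⟩).1 h)
    rcases hn with hn | hn
    · exfalso
      have h1 := mul_inv_eq_iff_eq_mul.1 (hy 1 hn)
      rw [h1f] at h1
      obtain ⟨i, hi, hfi⟩ := hpow _ (mul_mem (hφP n) hy₀P) h1
      exact hnot ⟨⟨i, by omega⟩, by simp [hφN, phiN, Nat.mod_eq_of_lt hi, Nat.div_eq_of_lt hi,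
        Nat.div_eq_of_lt (show i < 16 by omega), hfi]⟩
    · exact ⟨_, mul_mem (hφP n) hy₀P, hnot, hy 9 hn⟩
  obtain ⟨al, hal⟩ := hnorm y hyP 8
  obtain ⟨ga, hga⟩ := hnorm y hyP 16
  obtain ⟨n, hn⟩ : ∃ n, y * y = φN n := by
    have := Subgroup.mul_self_mem_of_index_two hMidx ⟨y, hyP⟩
    obtain ⟨w, hw⟩ := Subgroup.mem_subgroupOf.1 this
    exact ⟨w, hw.symm⟩
  rw [h8a] at hal
  rw [h16c] at hga
  let p : Prm := ⟨k, al, ga, n⟩
  have hth : ∀ x, y * φN x * y⁻¹ = φN (p.th x) := by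
    intro x
    rw [Prm.th, ← hmul, ← hmul, hpowN, hpowN, hpowN, ← hyf, ← hal, ← hga, conj_pow, conj_pow, conj_pow]
    simp only [hφN, phiN]
    group
  have hF : φN 9 = y * f * y⁻¹ := hyf.symm
  refine ⟨p, fun x => φN ⟨x.1 % 32, by omega⟩ * y ^ (x.1 / 32), ?_, ?_, ?_, ?_⟩
  · have hnn : y * φN n * y⁻¹ = φN n := by rw [← hn]; group
    have hsq : ∀ x, mulN k n x = mulN k (p.th (p.th x)) n := fun x => hinj (by
      rw [← hmul, ← hmul, ← hth, ← hth, ← hn]; group)
    refine ⟨hinj ?_, hinj ?_, hinj ?_, hinj ?_, hinj ?_, hinj ((hth n).symm.trans hnn), hsq 1, hsq 8, hsq 16⟩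
    · rw [← hmul, h0, ← hal, show y * a * y⁻¹ * (y * a * y⁻¹) = y * (a * a) * y⁻¹ by group, ha, mul_one, mul_inv_cancel]
    · rw [← hmul, ← hmul, hpowN, ← hal, hF, conj_pow,
        show y * a * y⁻¹ * (y * f * y⁻¹) = y * (a * f) * y⁻¹ by group, haf]
      group
    · rw [← hmul, h0, ← hga, show y * c * y⁻¹ * (y * c * y⁻¹) = y * (c * c) * y⁻¹ by group, hc, mul_one, mul_inv_cancel]
    · rw [← hmul, ← hmul, hpowN, ← hga, hF, conj_pow,
        show y * c * y⁻¹ * (y * f * y⁻¹) = y * (c * f) * y⁻¹ by group, hcf]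
      group
    · rw [← hmul, ← hmul, ← hmul, hpowN, ← hga, ← hal, hF, conj_pow,
        show y * c * y⁻¹ * (y * a * y⁻¹) = y * (c * a) * y⁻¹ by group, hca]
      show _ = _
      simp only [p]
      group
  · intro x x' h
    simp only at h
    have hx : x.1 / 32 < 2 := by omega
    have hx' : x'.1 / 32 < 2 := by omega
    have key : ∀ u v : Fin 32, φN u ≠ φN v * y := fun u v e => hyN
      ((N.mul_mem_cancel_left ⟨v, rfl⟩).1 (e ▸ (⟨u, rfl⟩ : φN u ∈ N)))
    interval_cases hX : x.1 / 32 <;> interval_cases hX' : x'.1 / 32 <;>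
      simp only [pow_zero, pow_one, mul_one] at h
    · have := congrArg Fin.val (hinj h); simp only at this; exact Fin.ext (by omega)
    · exact absurd h (key _ _)
    · exact absurd h.symm (key _ _)
    · have := congrArg Fin.val (hinj (mul_right_cancel h)); simp only at this; exact Fin.ext (by omega)
  · intro x x'
    have hφ : ∀ (u : Fin 64) (w : Fin 32) (e : ℕ), u.1 = w.1 + 32 * e →
        φN ⟨u.1 % 32, by omega⟩ * y ^ (u.1 / 32) = φN w * y ^ e := fun u w e h => by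
      have h1 : u.1 / 32 = e := by omega
      rw [h1]
      exact congrArg (φN · * y ^ e) (Fin.ext (by show u.1 % 32 = w.1; omega))
    have hyx : ∀ v : Fin 32, y * φN v = φN (p.th v) * y := fun v => by rw [← hth, inv_mul_cancel_right]
    by_cases hX : x.1 / 32 = 0
    · refine (hφ _ (mulN k ⟨x.1 % 32, by omega⟩ ⟨x'.1 % 32, by omega⟩) (x'.1 / 32) (by simp only [Prm.m, if_pos hX, p])).trans ?_
      simp only
      rw [hX, pow_zero, mul_one, ← mul_assoc, hmul]
    · by_cases hX' : x'.1 / 32 = 0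
      · refine (hφ _ (mulN k ⟨x.1 % 32, by omega⟩ (p.th ⟨x'.1 % 32, by omega⟩)) 1
          (by simp only [Prm.m, if_neg hX, if_pos hX', p, mul_one])).trans ?_
        simp only
        rw [show x.1 / 32 = 1 by omega, hX', pow_zero, mul_one, pow_one, mul_assoc, hyx, ← mul_assoc, hmul]
      · refine (hφ _ (mulN k (mulN k ⟨x.1 % 32, by omega⟩ (p.th ⟨x'.1 % 32, by omega⟩)) n) 0
          (by simp only [Prm.m, if_neg hX, if_neg hX', p, mul_zero, add_zero])).trans ?_
        simp only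
        rw [show x.1 / 32 = 1 by omega, show x'.1 / 32 = 1 by omega, pow_zero, mul_one, pow_one, mul_assoc,
          ← mul_assoc y, hyx, ← hmul, ← hmul, ← hn]
        simp only [mul_assoc]
  · ext g
    constructor
    · rintro ⟨x, rfl⟩
      exact mul_mem (hφP _) (pow_mem hyP _)
    · intro hg
      by_cases hgN : g ∈ N
      · obtain ⟨w, rfl⟩ := hgN
        refine ⟨⟨w.1, by omega⟩, ?_⟩
        simp only
        rw [Nat.div_eq_of_lt w.2, pow_zero, mul_one]
        exact congrArg φN (Fin.ext (Nat.mod_eq_of_lt w.2))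
      · have hgy : (⟨g, hg⟩ * ⟨y, hyP⟩⁻¹ : P) ∈ M := by
          rw [Subgroup.mul_mem_iff_of_index_two hMidx, inv_mem_iff, Subgroup.mem_subgroupOf, Subgroup.mem_subgroupOf]
          exact iff_of_false hgN hyN
        obtain ⟨w, hw⟩ := Subgroup.mem_subgroupOf.1 hgy
        refine ⟨⟨w.1 + 32, by omega⟩, ?_⟩
        simp only
        rw [show (w.1 + 32) / 32 = 1 by omega, pow_one,
          show φN ⟨(w.1 + 32) % 32, _⟩ = φN w from congrArg φN (Fin.ext (by show (w.1 + 32) % 32 = w.1; omega)), hw]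
        show g * y⁻¹ * y = g
        rw [inv_mul_cancel_right]

end Cfsg.Agent.M12SelfCent
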